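import Cfsg.Agent.Lib.Sig.IntrinsicPair.Comp
import Cfsg.Agent.Lib.Sig.LBalanceTwo

/-!
Modulo the core of an involution centralizer: the diagonal of two interchanged components, and the
order comparison for a component centralized by a second involution.
-/

set_option autoImplicit false
set_option linter.style.haveILetI false

namespace Cfsg.Lib.Sig.Intr

open Subgroup
open scoped commutatorElement

universe u

section Single

variable {X : Type u} [Group X] [Finite X]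

local notation "π" => QuotientGroup.mk' (Cfsg.pPrimeCore 2 X)

theorem centralizer_bar {s : X} (hs : TwoEl s) :
    centralizer ({π s} : Set (X ⧸ Cfsg.pPrimeCore 2 X)) = (centralizer ({s} : Set X)).map π := by
  haveI : Fact (Nat.Prime 2) := ⟨Nat.prime_two⟩
  have key : ∀ {Y : Type u} [Group Y] (y : Y),
      centralizer ((Subgroup.zpowers y : Subgroup Y) : Set Y) = centralizer ({y} : Set Y) := by
    intro Y _ y
    ext x
    rw [mem_centralizer_iff, mem_centralizer_singleton_iff]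
    constructor
    · exact fun h => (h y (Subgroup.mem_zpowers y)).symm
    · rintro h _ ⟨i, rfl⟩
      exact ((show Commute y x from h.symm).zpow_left i).eq
  have h := centralizer_map_mk' (p := 2) (Cfsg.pPrimeCore 2 X) (Cfsg.Lib.Core.pPrimeCore_coprime 2 X)
    hs.zpowers
  rw [MonoidHom.map_zpowers, key, key] at h
  exact h

/-- A quasisimple subgroup of even order, subnormal in the centralizer of `s` modulo the core, is
covered by the 2-layer of the centralizer of `s`. -/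
theorem le_map_pLayerOf {s : X} (hs : TwoEl s) {D : Subgroup (X ⧸ Cfsg.pPrimeCore 2 X)}
    (hD : Cfsg.IsQuasisimple ↥D) (heven : 2 ∣ Nat.card ↥D) (hle : D ≤ centralizer ({π s} : Set _))
    (hsn : (D.subgroupOf (centralizer ({π s} : Set _))).IsSubnormal) :
    D ≤ (Cfsg.pLayerOf 2 (centralizer ({s} : Set X))).map π := by
  haveI : Fact (Nat.Prime 2) := ⟨Nat.prime_two⟩
  set H := centralizer ({s} : Set X) with hH
  set Y := centralizer ({π s} : Set (X ⧸ Cfsg.pPrimeCore 2 X)) with hY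
  have hYH : Y = H.map π := centralizer_bar hs
  let g : ↥H →* ↥Y := ((π).comp H.subtype).codRestrict Y fun y => hYH ▸ mem_map_of_mem π y.2
  have hg : Function.Surjective g := by
    rintro ⟨y, hy⟩
    obtain ⟨x, hx, rfl⟩ : y ∈ H.map π := hYH ▸ hy
    exact ⟨⟨x, hx⟩, rfl⟩
  have hker : (Nat.card ↥g.ker).Coprime 2 := by
    rw [← card_map_of_injective (f := H.subtype) H.subtype_injective]
    refine Cfsg.Lib.Core.coprime_card_of_le ?_ (Cfsg.Lib.Core.pPrimeCore_coprime 2 X)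
    rintro _ ⟨x, hx, rfl⟩
    exact (QuotientGroup.eq_one_iff _).mp (congrArg Subtype.val (MonoidHom.mem_ker.mp hx))
  set D' := D.subgroupOf Y with hD'
  have hc : Cfsg.IsComponent D' :=
    ⟨hsn, Cfsg.Lib.Core.quasisimple_congr hD (subgroupOfEquivOfLe hle).symm⟩
  have h1 := component_le_map_pLayer g hg hker hc
  set M := (Cfsg.pLayer 2 ↥H).map g with hM
  haveI hMn : M.Normal := (inferInstance : (Cfsg.pLayer 2 ↥H).Normal).map g hg
  set O' := Cfsg.pPrimeCore 2 ↥Y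
  have hcomm : ⁅D', O'⁆ = ⊥ := by
    rcases Cfsg.Lib.Core.component_le_or_commute hc (inferInstance : O'.Normal).isSubnormal with h | h
    · exfalso
      have h2 : 2 ∣ Nat.card ↥O' := by
        refine (heven.trans ?_).trans (card_dvd_of_le h)
        exact (Nat.card_congr (subgroupOfEquivOfLe hle).toEquiv).symm ▸ dvd_rfl
      exact Nat.Prime.not_coprime_iff_dvd.mpr ⟨2, Nat.prime_two, h2, dvd_rfl⟩
        (Cfsg.Lib.Core.pPrimeCore_coprime 2 ↥Y)
    · exact h
  have h2 : D' ≤ M := by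
    rw [← Cfsg.Lib.Core.IsComponent.commutator_eq hc]
    refine commutator_le.mpr fun a ha b hb => ?_
    obtain ⟨m, hm, o, ho, rfl⟩ := mem_sup_of_normal_left.mp (h1 ha)
    have hob : ⁅o, b⁆ = 1 := by
      have := commutator_mem_commutator hb ho
      rw [hcomm, mem_bot] at this
      rw [← commutatorElement_inv, this, inv_one]
    rw [show ⁅m * o, b⁆ = m * ⁅o, b⁆ * (b * m⁻¹ * b⁻¹) by rw [commutatorElement_def, commutatorElement_def]; group,
      hob, mul_one]
    exact mul_mem hm (hMn.conj_mem _ (inv_mem hm) b)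
  intro d hd
  obtain ⟨x, hx, hxd⟩ := h2 (show (⟨d, hle hd⟩ : ↥Y) ∈ D' from mem_subgroupOf.mpr hd)
  exact ⟨x, ⟨x, hx, rfl⟩, congrArg Subtype.val hxd⟩

/-- Two-elements of the centralizer of `s` in the preimage of the image of its 2-layer lie in it. -/
theorem mem_pLayerOf_of_bar {s x : X} (hx : x ∈ centralizer ({s} : Set X)) (h2 : TwoEl x)
    (h : π x ∈ (Cfsg.pLayerOf 2 (centralizer ({s} : Set X))).map π) :
    x ∈ Cfsg.pLayerOf 2 (centralizer ({s} : Set X)) := by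
  haveI : Fact (Nat.Prime 2) := ⟨Nat.prime_two⟩
  set H := centralizer ({s} : Set X) with hH
  obtain ⟨_, ⟨m, hm, rfl⟩, hmx⟩ := h
  set N := (Cfsg.pPrimeCore 2 X).subgroupOf H
  set M := Cfsg.pLayer 2 ↥H
  have hmem : (⟨x, hx⟩ : ↥H) ∈ M ⊔ N := by
    have : m⁻¹ * ⟨x, hx⟩ ∈ N := mem_subgroupOf.mpr (QuotientGroup.eq.mp hmx)
    simpa using mul_mem (mem_sup_left hm : m ∈ M ⊔ N) (mem_sup_right this)
  obtain ⟨k, hk⟩ := h2
  refine ⟨⟨x, hx⟩, mem_of_isSubnormal_of_relIndex (le_sup_left : M ≤ M ⊔ N)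
    (inferInstance : M.Normal).isSubnormal.subgroupOf ?_ hmem ((Subgroup.orderOf_mk x hx).trans hk), rfl⟩
  intro hd
  have h3 : M.relIndex (M ⊔ N) ∣ Nat.card ↥N := by
    refine Nat.dvd_of_mul_dvd_mul_left (k := Nat.card ↥M) Nat.card_pos ?_
    rw [Cfsg.Lib.Core.card_mul_relIndex le_sup_left]
    exact Cfsg.Lib.Core.card_sup_dvd_mul M N
  have h4 : Nat.card ↥N ∣ Nat.card ↥(Cfsg.pPrimeCore 2 X) := by
    rw [← card_map_of_injective (f := H.subtype) H.subtype_injective]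
    exact card_dvd_of_le (map_comap_le _ _)
  exact Cfsg.Lib.Core.pPrimeCore_not_dvd 2 X ((hd.trans h3).trans h4)

/-- The diagonal of two components interchanged by `s`. -/
theorem diag_mem_image {K : Subgroup X} (hK : Cfsg.IsPComponent 2 K) {s : X} (hs : s * s = 1)
    (hsK : K.map (MulAut.conj s).toMonoidHom ≠ K) {j : X} (hj : j ∈ K) :
    π (j * (s * j * s⁻¹)) ∈ (Cfsg.pLayerOf 2 (centralizer ({s} : Set X))).map π := by
  haveI : Fact (Nat.Prime 2) := ⟨Nat.prime_two⟩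
  set L := K.map π with hLdef
  have hL : Cfsg.IsComponent L := hK.2.1
  set σ := π s with hσ
  have hσ2 : σ * σ = 1 := by rw [hσ, ← map_mul, hs, map_one]
  have hσi : σ⁻¹ = σ := inv_eq_of_mul_eq_one_right hσ2
  set L' := L.map (MulAut.conj σ).toMonoidHom with hL'
  have hne : L ≠ L' := fun e => hsK (pComponent_eq_of_map_eq
    (BBalance.isPComponent_map_equiv (MulAut.conj s) hK) hK (by
      rw [map_map, show (π).comp (MulAut.conj s).toMonoidHom = (MulAut.conj σ).toMonoidHom.comp π by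
        ext x; simp [hσ], ← map_map]
      exact e.symm))
  have hc : ∀ a ∈ L, ∀ b ∈ L, a * (σ * b * σ⁻¹) = σ * b * σ⁻¹ * a := fun a ha b hb =>
    Cfsg.Lib.Core.commutator_eq_bot_iff_forall.mp
      (Cfsg.Lib.Core.component_commute hL (Cfsg.Lib.Core.IsComponent.map_conj hL σ) hne) a ha _
      (mem_map_of_mem _ hb)
  let φ : ↥L →* X ⧸ Cfsg.pPrimeCore 2 X :=
    { toFun := fun a => (a : X ⧸ Cfsg.pPrimeCore 2 X) * (σ * a * σ⁻¹)
      map_one' := by simp
      map_mul' := fun a b => by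
        have := hc b b.2 a a.2
        calc ((a * b : ↥L) : X ⧸ Cfsg.pPrimeCore 2 X) * (σ * (a * b : ↥L) * σ⁻¹)
            = a * ((b : X ⧸ Cfsg.pPrimeCore 2 X) * (σ * a * σ⁻¹)) * (σ * b * σ⁻¹) := by
              simp only [Subgroup.coe_mul]; group
          _ = a * (σ * a * σ⁻¹) * (b * (σ * b * σ⁻¹)) := by rw [this]; group }
  have hker : φ.ker ≠ ⊤ := by
    intro htop
    refine hne (le_antisymm ?_ ?_)
    · intro a ha
      have h1 : a * (σ * a * σ⁻¹) = 1 := MonoidHom.mem_ker.mp (htop ▸ mem_top (⟨a, ha⟩ : ↥L))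
      have h2 : a = (MulAut.conj σ) a⁻¹ := by
        calc a = σ⁻¹ * (σ * a * σ⁻¹) * σ := by group
          _ = σ⁻¹ * a⁻¹ * σ := by rw [eq_inv_of_mul_eq_one_right h1]
          _ = (MulAut.conj σ) a⁻¹ := by rw [MulAut.conj_apply, hσi]
      rw [h2]
      exact mem_map_of_mem _ (inv_mem ha)
    · rintro _ ⟨a, ha, rfl⟩
      have h1 : a * (σ * a * σ⁻¹) = 1 := MonoidHom.mem_ker.mp (htop ▸ mem_top (⟨a, ha⟩ : ↥L))
      show σ * a * σ⁻¹ ∈ L
      rw [eq_inv_of_mul_eq_one_right h1]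
      exact inv_mem ha
  have hD : Cfsg.IsQuasisimple ↥φ.range :=
    isQuasisimple_of_surjective hL.2 φ.rangeRestrict φ.rangeRestrict_surjective
      (by rwa [MonoidHom.ker_rangeRestrict])
  have heven : 2 ∣ Nat.card ↥φ.range := by
    by_contra hodd
    obtain ⟨S⟩ : Nonempty (Sylow 2 ↥L) := inferInstance
    have hker' : φ.ker ≤ center ↥L :=
      (Cfsg.Lib.Core.quasisimple_normal hL.2).resolve_right hker
    refine S.ne_bot_of_dvd_card (dvd_card_component Cfsg.Lib.Core.pPrimeCore_quotient_eq_bot hL)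
      (not_dvd_card_of_perfect_of_central_sylow (Cfsg.Lib.Core.quasisimple_commutator hL.2) S ?_)
    intro x hx
    refine hker' (MonoidHom.mem_ker.mpr ?_)
    obtain ⟨k, hk⟩ := IsPGroup.iff_orderOf.mp S.2 ⟨x, hx⟩
    rw [Subgroup.orderOf_mk] at hk
    rw [← orderOf_eq_one_iff]
    have h1 : orderOf (φ x) ∣ 2 ^ k := hk ▸ orderOf_map_dvd φ x
    have h2 : orderOf (φ x) ∣ Nat.card ↥φ.range := by
      rw [← Nat.card_zpowers]
      exact card_dvd_of_le (zpowers_le.mpr ⟨x, rfl⟩)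
    exact Nat.eq_one_of_dvd_coprimes
      ((Nat.prime_two.coprime_iff_not_dvd.mpr hodd).pow_left k) h1 h2
  set Y := centralizer ({σ} : Set (X ⧸ Cfsg.pPrimeCore 2 X)) with hY
  have hle : φ.range ≤ Y := by
    rintro _ ⟨⟨a, ha⟩, rfl⟩
    rw [hY, mem_centralizer_singleton_iff]
    show a * (σ * a * σ⁻¹) * σ = σ * (a * (σ * a * σ⁻¹))
    rw [hc a ha a ha]
    calc σ * a * σ⁻¹ * a * σ = σ * a * σ⁻¹ * a * σ⁻¹ := by rw [hσi]
      _ = σ * (a * (σ⁻¹ * a * σ⁻¹)) := by group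
      _ = σ * (a * (σ * a * σ⁻¹)) := by rw [hσi]
      _ = σ * (σ * a * σ⁻¹ * a) := by rw [hc a ha a ha]
  have hsn : (φ.range.subgroupOf Y).IsSubnormal := by
    set E := (Cfsg.layer (X ⧸ Cfsg.pPrimeCore 2 X)).subgroupOf Y
    have hDE : φ.range.subgroupOf Y ≤ E := by
      rintro ⟨y, hy⟩ ⟨⟨a, ha⟩, hay⟩
      refine mem_subgroupOf.mpr ?_
      show y ∈ _
      rw [← show a * (σ * a * σ⁻¹) = y from hay]
      exact mul_mem (Cfsg.Lib.Core.le_layer hL ha)
        ((inferInstance : (Cfsg.layer (X ⧸ Cfsg.pPrimeCore 2 X)).Normal).conj_mem _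
          (Cfsg.Lib.Core.le_layer hL ha) σ)
    refine IsSubnormal.trans hDE (Normal.isSubnormal ((normal_subgroupOf_iff_le_normalizer hDE).mpr ?_))
      (inferInstance : E.Normal).isSubnormal
    intro e he
    refine mem_normalizer_fintype fun y hy => ?_
    obtain ⟨⟨a, ha⟩, hay⟩ := hy
    have heL : (e : X ⧸ Cfsg.pPrimeCore 2 X) * a * (e : X ⧸ Cfsg.pPrimeCore 2 X)⁻¹ ∈ L :=
      (mem_normalizer_iff.mp ((sSup_le fun M hM => Cfsg.Lib.Core.component_le_normalizer hM hL :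
        Cfsg.layer (X ⧸ Cfsg.pPrimeCore 2 X) ≤ normalizer (L : Set _)) (mem_subgroupOf.mp he)) a).mp ha
    refine ⟨⟨_, heL⟩, ?_⟩
    have hec : σ * (e : X ⧸ Cfsg.pPrimeCore 2 X) = e * σ :=
      (mem_centralizer_singleton_iff.mp e.2).symm
    show (e : X ⧸ Cfsg.pPrimeCore 2 X) * a * (e : X ⧸ Cfsg.pPrimeCore 2 X)⁻¹ *
      (σ * (e * a * (e : X ⧸ Cfsg.pPrimeCore 2 X)⁻¹) * σ⁻¹) = ((e * y * e⁻¹ : ↥Y) : X ⧸ Cfsg.pPrimeCore 2 X)
    simp only [Subgroup.coe_mul, Subgroup.coe_inv]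
    rw [← show a * (σ * a * σ⁻¹) = (y : X ⧸ Cfsg.pPrimeCore 2 X) from hay]
    have hei : (e : X ⧸ Cfsg.pPrimeCore 2 X)⁻¹ * σ⁻¹ = σ⁻¹ * (e : X ⧸ Cfsg.pPrimeCore 2 X)⁻¹ := by
      rw [← mul_inv_rev, ← mul_inv_rev, hec]
    simp only [← mul_assoc]
    rw [mul_assoc _ σ (e : X ⧸ Cfsg.pPrimeCore 2 X), hec, mul_assoc _ _ σ⁻¹, hei]
    group
  exact le_map_pLayerOf (twoEl_of_invol hs) hD heven hle hsn ⟨⟨π j, mem_map_of_mem π hj⟩, by
    show π j * (σ * π j * σ⁻¹) = _
    simp [hσ]⟩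

end Single

section Ambient

variable {G : Type u} [Group G] [Finite G]

/-- The quotient of a subgroup by its own core. -/
noncomputable def qcard (L : Subgroup G) : ℕ := Nat.card (↥L ⧸ Cfsg.pPrimeCore 2 ↥L)

theorem pLayer_map_equiv {Y : Type u} [Group Y] [Finite Y] {X : Type u} [Group X] [Finite X] (e : X ≃* Y) :
    (Cfsg.pLayer 2 X).map e.toMonoidHom = Cfsg.pLayer 2 Y := by
  haveI : Fact (Nat.Prime 2) := ⟨Nat.prime_two⟩
  have key : ∀ {A B : Type u} [Group A] [Group B] [Finite A] [Finite B] (f : A ≃* B),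
      (Cfsg.pLayer 2 A).map f.toMonoidHom ≤ Cfsg.pLayer 2 B := fun f =>
    map_pLayer_le_of_surjective f.toMonoidHom f.surjective (by
      rw [(MonoidHom.ker_eq_bot_iff _).mpr f.injective, card_bot]
      exact Nat.coprime_one_left 2)
  refine le_antisymm (key e) fun y hy => ?_
  exact ⟨e.symm y, key e.symm ⟨y, hy, rfl⟩, e.apply_symm_apply y⟩

/-- The 2-layer of a subgroup, computed inside a larger one. -/
theorem pLayerOf_inner {U V : Subgroup G} (hVU : V ≤ U) :
    (Cfsg.pLayerOf 2 (V.subgroupOf U)).map U.subtype = Cfsg.pLayerOf 2 V := by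
  rw [Cfsg.pLayerOf, Cfsg.pLayerOf, ← pLayer_map_equiv (subgroupOfEquivOfLe hVU), map_map, map_map]
  rfl

/-- `L`-balance between the centralizers of commuting elements. -/
theorem pLayerOf_pair_le {z s : G} (hz : TwoEl z) (h : z * s = s * z) :
    Cfsg.pLayerOf 2 (centralizer ({z} : Set G) ⊓ centralizer ({s} : Set G)) ≤
      Cfsg.pLayerOf 2 (centralizer ({s} : Set G)) := by
  haveI : Fact (Nat.Prime 2) := ⟨Nat.prime_two⟩
  set U := centralizer ({s} : Set G) with hU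
  set V := centralizer ({z} : Set G) ⊓ U with hV
  have hR : IsPGroup 2 ↥((Subgroup.zpowers z).subgroupOf U) := hz.zpowers.comap_subtype
  have e : centralizer (((Subgroup.zpowers z).subgroupOf U : Subgroup ↥U) : Set ↥U) = V.subgroupOf U := by
    ext x
    rw [mem_centralizer_iff, mem_subgroupOf, hV, mem_inf, mem_C]
    constructor
    · intro hx
      refine ⟨?_, x.2⟩
      have := congrArg Subtype.val (hx ⟨z, mem_C.mpr h⟩ (mem_subgroupOf.mpr (Subgroup.mem_zpowers z)))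
      exact this.symm
    · rintro ⟨hx, -⟩ y hy
      obtain ⟨i, hi⟩ := Subgroup.mem_zpowers_iff.mp (mem_subgroupOf.mp hy)
      refine Subtype.ext ?_
      show (y : G) * x = x * y
      rw [← hi]
      exact ((show Commute z (x : G) from hx.symm).zpow_left i).eq
  have := l_balance_centralizer_two hR
  rw [e] at this
  rw [← pLayerOf_inner (inf_le_right : V ≤ U)]
  exact map_mono this

/-- The centralizer of `s` inside that of `z`. -/
theorem pLayerOf_cent {z s : G} (hs : s * z = z * s) :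
    (Cfsg.pLayerOf 2 (centralizer ({(⟨s, mem_C.mpr hs⟩ : ↥(centralizer ({z} : Set G)))} :
      Set ↥(centralizer ({z} : Set G))))).map (centralizer ({z} : Set G)).subtype =
    Cfsg.pLayerOf 2 (centralizer ({z} : Set G) ⊓ centralizer ({s} : Set G)) := by
  rw [← pLayerOf_inner (inf_le_left : centralizer ({z} : Set G) ⊓ centralizer ({s} : Set G) ≤ _)]
  congr 2
  ext x
  rw [mem_centralizer_singleton_iff, mem_subgroupOf, mem_inf]
  exact ⟨fun h => ⟨x.2, mem_C.mpr (congrArg Subtype.val h)⟩, fun h => Subtype.ext (mem_C.mp h.2)⟩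

/-- An element times its conjugate by an involution moving its component lies in the 2-layer of the
centralizer of that involution. -/
theorem diag_mem {z : G} {K : Subgroup G} (hK : CompAt z K) (hz : TwoEl z) {s : G} (hs : s * s = 1)
    (hsz : s * z = z * s) (hsK : s ∉ normalizer (K : Set G)) {S : Subgroup G} (hS : IsPGroup 2 S)
    (hsS : s ∈ S) {j : G} (hjS : j ∈ S) (hj : j ∈ K) :
    j * (s * j * s⁻¹) ∈ Cfsg.pLayerOf 2 (centralizer ({s} : Set G)) := by
  haveI : Fact (Nat.Prime 2) := ⟨Nat.prime_two⟩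
  set U := centralizer ({z} : Set G) with hU
  set s' : ↥U := ⟨s, mem_C.mpr hsz⟩ with hs'
  set j' : ↥U := ⟨j, hK.1 hj⟩ with hj'
  have hm : (K.subgroupOf U).map (MulAut.conj s').toMonoidHom ≠ K.subgroupOf U := fun e => hsK (by
    refine mem_normalizer_fintype fun x hx => ?_
    exact mem_subgroupOf.mp (e.le ⟨⟨x, hK.1 hx⟩, mem_subgroupOf.mpr hx, rfl⟩))
  have h := diag_mem_image hK.2 (s := s') (Subtype.ext hs) hm (mem_subgroupOf.mpr hj : j' ∈ _)
  have hne : K ≠ K.map (MulAut.conj s).toMonoidHom := fun e => hsK (mem_normalizer_of_map_conj e.symm)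
  have hc : j * (s * j * s⁻¹) = s * j * s⁻¹ * j :=
    hK.commute_exact (hK.conj_of_comm hsz) hne hS hjS hj (mul_mem (mul_mem hsS hjS) (inv_mem hsS))
      ⟨j, hj, rfl⟩
  have hsc : j' * (s' * j' * s'⁻¹) ∈ centralizer ({s'} : Set ↥U) := by
    refine mem_centralizer_singleton_iff.mpr (Subtype.ext ?_)
    show j * (s * j * s⁻¹) * s = s * (j * (s * j * s⁻¹))
    have hsi : s⁻¹ = s := inv_eq_of_mul_eq_one_right hs
    calc j * (s * j * s⁻¹) * s = j * s * j := by group
      _ = (s * s) * j * s⁻¹ * j := by rw [hs, one_mul, hsi]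
      _ = s * (s * j * s⁻¹ * j) := by group
      _ = s * (j * (s * j * s⁻¹)) := by rw [hc]
  have h2 : TwoEl (j' * (s' * j' * s'⁻¹)) := by
    obtain ⟨k, hk⟩ := twoEl_of_mem hS (mul_mem hjS (mul_mem (mul_mem hsS hjS) (inv_mem hsS)))
    exact ⟨k, by rw [← Subgroup.orderOf_coe]; exact hk⟩
  have h3 := mem_pLayerOf_of_bar hsc h2 h
  refine pLayerOf_pair_le hz hsz.symm ?_
  rw [← pLayerOf_cent hsz]
  exact ⟨_, h3, rfl⟩

/-- The image of a component modulo the core is its quotient by its own core. -/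
theorem card_bar {z : G} {L : Subgroup G} (hL : CompAt z L) :
    Nat.card ↥((L.subgroupOf (centralizer ({z} : Set G))).map
      (QuotientGroup.mk' (Cfsg.pPrimeCore 2 ↥(centralizer ({z} : Set G))))) = qcard L := by
  haveI : Fact (Nat.Prime 2) := ⟨Nat.prime_two⟩
  set L0 := L.subgroupOf (centralizer ({z} : Set G))
  set f := QuotientGroup.mk' (Cfsg.pPrimeCore 2 ↥(centralizer ({z} : Set G)))
  have hker : (f.subgroupMap L0).ker = Cfsg.pPrimeCore 2 ↥L0 := by
    apply Subgroup.map_injective L0.subtype_injective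
    rw [inf_pPrimeCore_eq hL.2.1]
    ext x
    simp only [mem_map, MonoidHom.mem_ker, mem_inf, coe_subtype]
    constructor
    · rintro ⟨y, hy, rfl⟩
      exact ⟨(QuotientGroup.eq_one_iff _).mp (congrArg Subtype.val hy), y.2⟩
    · rintro ⟨hx, hxL⟩
      exact ⟨⟨x, hxL⟩, Subtype.ext ((QuotientGroup.eq_one_iff x).mpr hx), rfl⟩
  let e := subgroupOfEquivOfLe hL.1
  refine ((Nat.card_congr ((QuotientGroup.quotientKerEquivOfSurjective _
    (f.subgroupMap_surjective L0))).toEquiv).symm.trans ?_)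
  rw [qcard]
  exact Nat.card_congr ((QuotientGroup.quotientMulEquivOfEq hker).trans
    (QuotientGroup.congr _ _ e (Cfsg.Lib.Core.map_pPrimeCore_equiv e))).toEquiv

theorem qcard_conj (L : Subgroup G) (g : G) : qcard (L.map (MulAut.conj g).toMonoidHom) = qcard L := by
  let e := (MulAut.conj g).subgroupMap L
  exact (Nat.card_congr (QuotientGroup.congr _ _ e (Cfsg.Lib.Core.map_pPrimeCore_equiv e)).toEquiv).symm

/-- A component `M` of the centralizer of `w`, centralized modulo the core by `z`, is smaller than the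
component `J` at `z` on which `w` acts nontrivially. -/
theorem qcard_lt {z w : G} {J M : Subgroup G} (hJ : Intrinsic J z) (hM : Intrinsic M w)
    (hzw : z * w = w * z) (hcen : ∀ k ∈ M, ⁅z, k⁆ ∈ core w) {S : Subgroup G} (hS : IsPGroup 2 S)
    (hwS : w ∈ S) {x : G} (hxS : x ∈ S) (hx : x ∈ J)
    (hxw : w * x ≠ x * w) : qcard M < qcard J := by
  haveI : Fact (Nat.Prime 2) := ⟨Nat.prime_two⟩
  set U := centralizer ({w} : Set G) with hU
  set f := QuotientGroup.mk' (Cfsg.pPrimeCore 2 ↥U) with hf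
  set z' : ↥U := ⟨z, mem_C.mpr hzw⟩ with hz'
  set w' : ↥U := ⟨w, mem_C.mpr rfl⟩ with hw'
  set L := (M.subgroupOf U).map f with hLdef
  have hL : Cfsg.IsComponent L := hM.comp.2.2.1
  have hcore : ∀ u : ↥U, (u : G) ∈ core w → f u = 1 := by
    rintro u ⟨v, hv, hvu⟩
    rw [hf, QuotientGroup.mk'_apply, QuotientGroup.eq_one_iff, ← Subtype.ext hvu]
    exact hv
  -- the component is centralized by `z`
  have hle : L ≤ centralizer ({f z'} : Set _) := by
    rintro _ ⟨k, hk, rfl⟩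
    rw [mem_centralizer_singleton_iff]
    have h1 : f ⁅z', k⁆ = 1 := hcore _ (hcen _ (mem_subgroupOf.mp hk))
    rw [map_commutatorElement, commutatorElement_eq_one_iff_mul_comm] at h1
    exact h1.symm
  have hwL : f w' ∈ L := mem_map_of_mem f (mem_subgroupOf.mpr hM.mem)
  have hfw : f w' ≠ 1 := fun e => hM.ne (eq_one_of_core hS hwS
    ⟨w', (QuotientGroup.eq_one_iff _).mp e, rfl⟩)
  have hz2 : TwoEl z' := by
    obtain ⟨k, hk⟩ := twoEl_of_invol hJ.sq
    exact ⟨k, by rw [← Subgroup.orderOf_coe]; exact hk⟩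
  have heven : 2 ∣ Nat.card ↥L := by
    have h2 : orderOf (f w') = 2 := orderOf_eq_prime (by
      rw [pow_two, ← map_mul, show w' * w' = 1 from Subtype.ext hM.sq, map_one]) hfw
    have h3 : orderOf (f w') ∣ Nat.card ↥L := by
      rw [← Nat.card_zpowers]
      exact card_dvd_of_le (zpowers_le.mpr hwL)
    rwa [h2] at h3
  have hcov := le_map_pLayerOf hz2 hL.2 heven hle (Cfsg.Lib.Core.IsComponent.subgroupOf hL hle).1
  set P := Cfsg.pLayerOf 2 (centralizer ({z'} : Set ↥U)) ⊓ L.comap f with hP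
  have hwz : w' ∈ centralizer ({z'} : Set ↥U) :=
    mem_centralizer_singleton_iff.mpr (Subtype.ext hzw.symm)
  have hwP : w' ∈ P := mem_inf.mpr ⟨mem_pLayerOf_of_bar hwz (by
    obtain ⟨k, hk⟩ := twoEl_of_invol hM.sq
    exact ⟨k, by rw [← Subgroup.orderOf_coe]; exact hk⟩) (hcov hwL), hwL⟩
  let ρ : ↥P →* ↥L := (f.comp P.subtype).codRestrict L fun p => (mem_inf.mp p.2).2
  have hρ : Function.Surjective ρ := by
    rintro ⟨y, hy⟩
    obtain ⟨p, hp, rfl⟩ := hcov hy
    exact ⟨⟨p, mem_inf.mpr ⟨hp, hy⟩⟩, rfl⟩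
  -- the action on the component at `z`
  set U' := centralizer ({z} : Set G) with hU'
  set f' := QuotientGroup.mk' (Cfsg.pPrimeCore 2 ↥U') with hf'
  set Jb := (J.subgroupOf U').map f' with hJbdef
  have hJb : Cfsg.IsComponent Jb := hJ.comp.2.2.1
  have hPU : ∀ p : ↥P, ((p : ↥U) : G) ∈ Cfsg.pLayerOf 2 U' := by
    intro p
    refine pLayerOf_pair_le (z := w) (twoEl_of_invol hM.sq) hzw.symm ?_
    rw [← pLayerOf_cent hzw]
    exact ⟨_, (mem_inf.mp p.2).1, rfl⟩
  have hmemU' : ∀ p : ↥P, ((p : ↥U) : G) ∈ U' := fun p => map_subtype_le _ (hPU p)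
  let ι : ↥P →* ↥U' := (U.subtype.comp P.subtype).codRestrict U' hmemU'
  have hlay : ∀ p : ↥P, f' (ι p) ∈ Cfsg.layer (↥U' ⧸ Cfsg.pPrimeCore 2 ↥U') := by
    intro p
    rw [← map_pLayer]
    obtain ⟨q, hq, hqp⟩ := hPU p
    exact ⟨q, hq, congrArg f' (Subtype.ext hqp)⟩
  set N := normalizer (Jb : Set (↥U' ⧸ Cfsg.pPrimeCore 2 ↥U')) with hN
  have hlayN : Cfsg.layer (↥U' ⧸ Cfsg.pPrimeCore 2 ↥U') ≤ N :=
    sSup_le fun K hK => Cfsg.Lib.Core.component_le_normalizer hK hJb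
  let θ : ↥P →* MulAut ↥Jb :=
    Jb.normalizerMonoidHom.comp ((f'.comp ι).codRestrict N fun p => hlayN (hlay p))
  set Inn := (MulAut.conj : ↥Jb →* MulAut ↥Jb).range with hInn
  have hinner : θ.range ≤ Inn := by
    rintro _ ⟨p, rfl⟩
    have hsup : Cfsg.layer (↥U' ⧸ Cfsg.pPrimeCore 2 ↥U') ≤ (Inn.comap Jb.normalizerMonoidHom).map N.subtype := by
      refine sSup_le fun K hK y hy => ?_
      have hyN : y ∈ N := Cfsg.Lib.Core.component_le_normalizer hK hJb hy
      refine ⟨⟨y, hyN⟩, ?_, rfl⟩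
      by_cases hKJ : K = Jb
      · exact ⟨⟨y, hKJ ▸ hy⟩, MulEquiv.ext fun j => Subtype.ext rfl⟩
      · refine ⟨1, MulEquiv.ext fun j => Subtype.ext ?_⟩
        rw [map_one]
        show (j : ↥U' ⧸ Cfsg.pPrimeCore 2 ↥U') = y * j * y⁻¹
        rw [Cfsg.Lib.Core.commutator_eq_bot_iff_forall.mp
          (Cfsg.Lib.Core.component_commute hK hJb hKJ) y hy j j.2, mul_inv_cancel_right]
    obtain ⟨y, hy, hyp⟩ := hsup (hlay p)
    have : y = (f'.comp ι).codRestrict N (fun q => hlayN (hlay q)) p := Subtype.ext hyp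
    rw [this] at hy
    exact hy
  have hcard : Nat.card ↥Inn < Nat.card ↥Jb := by
    have h1 : Nat.card ↥Inn = (MulAut.conj : ↥Jb →* MulAut ↥Jb).ker.index := (index_ker _).symm
    have h2 := card_mul_index (MulAut.conj : ↥Jb →* MulAut ↥Jb).ker
    rw [h1, ← h2]
    refine lt_mul_left (Nat.pos_of_ne_zero (index_ne_zero_of_finite)) ?_
    refine (one_lt_card_iff_ne_bot _).mpr fun e => ?_
    have hzc : (⟨f' ⟨z, mem_C.mpr rfl⟩, mem_map_of_mem f' (mem_subgroupOf.mpr hJ.mem)⟩ : ↥Jb) ∈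
        (MulAut.conj : ↥Jb →* MulAut ↥Jb).ker := by
      refine MonoidHom.mem_ker.mpr (MulEquiv.ext fun j => Subtype.ext ?_)
      obtain ⟨k, hk, hkj⟩ := j.2
      show f' ⟨z, mem_C.mpr rfl⟩ * (j : ↥U' ⧸ Cfsg.pPrimeCore 2 ↥U') * (f' ⟨z, mem_C.mpr rfl⟩)⁻¹ =
        (j : ↥U' ⧸ Cfsg.pPrimeCore 2 ↥U')
      rw [← hkj, ← map_mul, ← map_inv, ← map_mul]
      refine congrArg f' (Subtype.ext ?_)
      show z * (k : G) * z⁻¹ = k
      rw [← mem_C.mp k.2, mul_inv_cancel_right]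
    rw [e, mem_bot] at hzc
    exact hJ.ne (eq_one_of_core (twoEl_of_invol hJ.sq).zpowers (Subgroup.mem_zpowers z)
      ⟨_, (QuotientGroup.eq_one_iff _).mp (congrArg Subtype.val hzc), rfl⟩)
  -- `w` acts nontrivially
  have hθw : θ ⟨w', hwP⟩ ≠ 1 := by
    intro e
    have hxU : x ∈ U' := hJ.comp.1 hx
    have h1 := congrArg Subtype.val (DFunLike.congr_fun e
      (⟨f' ⟨x, hxU⟩, mem_map_of_mem f' (mem_subgroupOf.mpr hx)⟩ : ↥Jb))
    change f' (ι ⟨w', hwP⟩) * f' ⟨x, hxU⟩ * (f' (ι ⟨w', hwP⟩))⁻¹ = f' ⟨x, hxU⟩ at h1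
    rw [← map_mul, ← map_inv, ← map_mul] at h1
    refine hxw (mul_inv_eq_iff_eq_mul.mp (eq_of_core hS hxS ?_ ⟨_, QuotientGroup.eq.mp h1.symm, rfl⟩).symm)
    exact mul_mem (mul_mem hwS hxS) (inv_mem hwS)
  have hkerodd : (Nat.card ↥ρ.ker).Coprime 2 := by
    rw [← card_map_of_injective (f := P.subtype) P.subtype_injective]
    refine Cfsg.Lib.Core.coprime_card_of_le ?_ (Cfsg.Lib.Core.pPrimeCore_coprime 2 ↥U)
    rintro _ ⟨p, hp, rfl⟩
    exact (QuotientGroup.eq_one_iff _).mp (congrArg Subtype.val (MonoidHom.mem_ker.mp hp))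
  -- the kernel of the action is inside that of `ρ`
  set N0 := θ.ker.map ρ with hN0
  haveI : N0.Normal := (MonoidHom.normal_ker θ).map ρ hρ
  have hN0c : N0 ≤ center ↥L := by
    refine (Cfsg.Lib.Core.quasisimple_normal hL.2).resolve_right fun htop => hθw ?_
    obtain ⟨n, hn, hne⟩ : ρ ⟨w', hwP⟩ ∈ N0 := htop ▸ mem_top _
    set o := n⁻¹ * ⟨w', hwP⟩ with ho
    have ho' : o ∈ ρ.ker := by rw [MonoidHom.mem_ker, ho, map_mul, map_inv, hne, inv_mul_cancel]
    have e1 : θ ⟨w', hwP⟩ = θ o := by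
      rw [ho, map_mul, map_inv, MonoidHom.mem_ker.mp hn, inv_one, one_mul]
    rw [e1, ← orderOf_eq_one_iff]
    refine Nat.eq_one_of_dvd_coprimes hkerodd ((orderOf_map_dvd θ o).trans ?_) ?_
    · rw [← Nat.card_zpowers]; exact card_dvd_of_le (zpowers_le.mpr ho')
    · refine orderOf_dvd_of_pow_eq_one ?_
      rw [← e1, pow_two, ← map_mul, show (⟨w', hwP⟩ : ↥P) * ⟨w', hwP⟩ = 1 from
        Subtype.ext (Subtype.ext hM.sq), map_one]
  have hN0odd : (Nat.card ↥N0).Coprime 2 := by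
    refine (Nat.prime_two.coprime_iff_not_dvd.mpr fun hd => ?_).symm
    obtain ⟨⟨y, hy⟩, hy2⟩ := exists_prime_orderOf_dvd_card' 2 hd
    rw [Subgroup.orderOf_mk] at hy2
    obtain ⟨n, hn, hny⟩ := hy
    obtain ⟨k, m, hm, hkm⟩ := Nat.exists_eq_two_pow_mul_odd (orderOf_pos n).ne'
    set n2 := n ^ m with hn2
    have hn2o : orderOf n2 = 2 ^ k := by
      rw [hn2, orderOf_pow' _ hm.pos.ne', hkm, Nat.gcd_mul_left_left, Nat.mul_div_cancel _ hm.pos]
    have hn2y : ρ n2 = y := by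
      rw [hn2, map_pow, hny]
      obtain ⟨l, rfl⟩ := hm
      have hy1 := pow_orderOf_eq_one y
      rw [hy2] at hy1
      rw [pow_succ, pow_mul, hy1, one_pow, one_mul]
    have hn2ker : n2 ∈ θ.ker := pow_mem hn m
    -- it lies in the component
    set u : ↥U := (n2 : ↥U) with hu
    have hu2 : TwoEl u := ⟨k, by rw [hu, Subgroup.orderOf_coe, hn2o]⟩
    have huM : u ∈ M.subgroupOf U := by
      set O := Cfsg.pPrimeCore 2 ↥U
      set M0 := M.subgroupOf U
      have hmem : u ∈ M0 ⊔ O := by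
        rw [← QuotientGroup.ker_mk' O, ← comap_map_eq]
        exact (mem_inf.mp n2.2).2
      refine mem_of_isSubnormal_of_relIndex (le_sup_left : M0 ≤ M0 ⊔ O)
        hM.comp.2.1.subgroupOf ?_ hmem hu2.choose_spec
      intro hd'
      have h3 : M0.relIndex (M0 ⊔ O) ∣ Nat.card ↥O := by
        refine Nat.dvd_of_mul_dvd_mul_left (k := Nat.card ↥M0) Nat.card_pos ?_
        rw [Cfsg.Lib.Core.card_mul_relIndex le_sup_left]
        exact Cfsg.Lib.Core.card_sup_dvd_mul M0 O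
      exact Cfsg.Lib.Core.pPrimeCore_not_dvd 2 ↥U (hd'.trans h3)
    obtain ⟨T, hT, hTs⟩ := Syl.exists_ge (TwoEl.zpowers (x := (u : G))
      ⟨k, by rw [Subgroup.orderOf_coe, hu, Subgroup.orderOf_coe, hn2o]⟩) (zpowers_le.mpr u.2)
    have huT : (u : G) ∈ T := hT (Subgroup.mem_zpowers _)
    have hQ := hM.oneInvol (hTs.inf_comp hM.comp)
    have hcase := hQ.central_cases (mem_inf.mpr ⟨huT, mem_subgroupOf.mp huM⟩) fun q hq => by
      obtain ⟨hqT, hqM⟩ := mem_inf.mp hq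
      have hqU : q ∈ U := hM.comp.1 hqM
      have hcc : ρ n2 * ⟨f ⟨q, hqU⟩, mem_map_of_mem f (mem_subgroupOf.mpr hqM)⟩ =
          ⟨f ⟨q, hqU⟩, mem_map_of_mem f (mem_subgroupOf.mpr hqM)⟩ * ρ n2 :=
        (mem_center_iff.mp (hN0c ⟨n2, hn2ker, rfl⟩) _).symm
      have h1 : f u * f ⟨q, hqU⟩ = f ⟨q, hqU⟩ * f u := congrArg Subtype.val hcc
      rw [← map_mul, ← map_mul] at h1
      exact (eq_of_core hTs.isTwo (mul_mem huT hqT) (mul_mem hqT huT) ⟨_, QuotientGroup.eq.mp h1, rfl⟩).symm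
    rcases hcase with e | e
    · have hn1 : n2 = 1 := Subtype.ext (Subtype.ext e)
      rw [hn1, map_one] at hn2y
      rw [← hn2y, orderOf_one] at hy2
      exact absurd hy2 (by decide)
    · have hn1 : n2 = ⟨w', hwP⟩ := Subtype.ext (Subtype.ext e)
      exact hθw (MonoidHom.mem_ker.mp (hn1 ▸ hn2ker))
  have hN0bot : N0 = ⊥ := by
    refine Subgroup.map_injective L.subtype_injective ?_
    rw [Subgroup.map_bot, ← le_bot_iff, ← Cfsg.Lib.Core.pPrimeCore_quotient_eq_bot (p := 2) (G := ↥U)]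
    exact Cfsg.Lib.Core.le_pPrimeCore_of_isSubnormal
      ((Cfsg.Lib.Core.isSubnormal_map_subtype_iff hL.1 N0).mpr (inferInstance : N0.Normal).isSubnormal)
      (by rw [card_map_of_injective L.subtype_injective]; exact hN0odd)
  have hkk : θ.ker ≤ ρ.ker := (Subgroup.map_eq_bot_iff _).mp hN0bot
  rw [← card_bar hM.comp, ← card_bar hJ.comp]
  calc Nat.card ↥L = ρ.ker.index := by rw [index_ker, MonoidHom.range_eq_top.mpr hρ, card_top]
    _ ≤ θ.ker.index := Nat.le_of_dvd (Nat.pos_of_ne_zero index_ne_zero_of_finite) (index_dvd_of_le hkk)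
    _ ≤ Nat.card ↥Inn := by rw [index_ker]; exact Nat.le_of_dvd Nat.card_pos (card_dvd_of_le hinner)
    _ < Nat.card ↥Jb := hcard

end Ambient

end Cfsg.Lib.Sig.Intr
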