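import Cfsg.Agent.Lib.Sig.IntrinsicPair.Two
import Cfsg.Agent.Lib.Sig.BBalance
import Cfsg.Agent.Lib.Solv.Nilpotent
import Cfsg.Agent.Lib.Fusion.Abelian

/-!
2-components of involution centralizers as subgroups of the whole group, and components whose
only involution is the one they centralize.
-/

set_option autoImplicit false
set_option linter.style.haveILetI false

namespace Cfsg.Lib.Sig.Intr

open Subgroup
open scoped commutatorElement

variable {G : Type*} [Group G] [Finite G]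

/-- `L` is a 2-component of the centralizer of `z`. -/
def CompAt (z : G) (L : Subgroup G) : Prop :=
  L ≤ centralizer ({z} : Set G) ∧ Cfsg.IsPComponent 2 (L.subgroupOf (centralizer ({z} : Set G)))

/-- The core of the centralizer of `z`. -/
abbrev core (z : G) : Subgroup G := Cfsg.centralizerPPrimeCore 2 z

/-- A two-element. -/
def TwoEl (x : G) : Prop := ∃ k : ℕ, orderOf x = 2 ^ k

/-- A Sylow two-subgroup of the subgroup `H`. -/
structure Syl (S H : Subgroup G) : Prop where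
  le : S ≤ H
  isTwo : IsPGroup 2 S
  max : ∀ P : Subgroup G, S ≤ P → P ≤ H → IsPGroup 2 P → P = S

omit [Finite G] in
theorem mem_C {x z : G} : x ∈ centralizer ({z} : Set G) ↔ x * z = z * x :=
  mem_centralizer_singleton_iff

omit [Finite G] in
theorem conj_fix_of_comm {s z : G} (h : s * z = z * s) : s * z * s⁻¹ = z := by
  rw [h, mul_inv_cancel_right]

omit [Finite G] in
theorem TwoEl.zpowers {x : G} (h : TwoEl x) : IsPGroup 2 ↥(Subgroup.zpowers x) := by
  obtain ⟨k, hk⟩ := h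
  exact IsPGroup.of_card (n := k) (by rw [Nat.card_zpowers, hk])

omit [Finite G] in
theorem twoEl_of_mem {P : Subgroup G} (hP : IsPGroup 2 P) {x : G} (hx : x ∈ P) : TwoEl x := by
  haveI : Fact (Nat.Prime 2) := ⟨Nat.prime_two⟩
  obtain ⟨k, hk⟩ := IsPGroup.iff_orderOf.mp hP ⟨x, hx⟩
  exact ⟨k, by rwa [Subgroup.orderOf_mk] at hk⟩

omit [Finite G] in
theorem twoEl_of_invol {x : G} (h : x * x = 1) : TwoEl x := by
  by_cases h1 : x = 1
  · exact ⟨0, by rw [h1, orderOf_one, pow_zero]⟩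
  · haveI : Fact (Nat.Prime 2) := ⟨Nat.prime_two⟩
    exact ⟨1, by rw [pow_one]; exact orderOf_eq_prime (by rwa [pow_two]) h1⟩

omit [Finite G] in
/-- Adjoining a two-element centralizing a two-group. -/
theorem isTwo_sup {P : Subgroup G} (hP : IsPGroup 2 P) {a : G} (ha : TwoEl a)
    (hc : ∀ p ∈ P, a * p = p * a) : IsPGroup 2 ↥(Subgroup.zpowers a ⊔ P) := by
  refine ha.zpowers.to_sup_of_normal_right' hP (zpowers_le.mpr ?_)
  refine mem_normalizer_iff.mpr fun p => ⟨fun h => ?_, fun h => ?_⟩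
  · rwa [hc p h, mul_inv_cancel_right]
  · have e := hc _ h
    have : a * p * a⁻¹ = p := by
      have h2 : a * (a * p * a⁻¹) = a * p := e.trans (inv_mul_cancel_right (a * p) a)
      exact mul_left_cancel h2
    rwa [this] at h

theorem Syl.exists_ge {P H : Subgroup G} (hP : IsPGroup 2 P) (hle : P ≤ H) :
    ∃ S, P ≤ S ∧ Syl S H := by
  obtain ⟨S, hPS, ⟨hS, hS2⟩, hmax⟩ :=
    (Set.toFinite {S : Subgroup G | S ≤ H ∧ IsPGroup 2 S}).exists_le_maximal (show P ∈ _ from ⟨hle, hP⟩)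
  exact ⟨S, hPS, hS, hS2, fun P' h1 h2 h3 => le_antisymm (hmax ⟨h2, h3⟩ h1) h1⟩

omit [Finite G] in
theorem Syl.conj {S H : Subgroup G} (h : Syl S H) (g : G) :
    Syl (S.map (MulAut.conj g).toMonoidHom) (H.map (MulAut.conj g).toMonoidHom) := by
  refine ⟨map_mono h.le, h.isTwo.map _, fun P h1 h2 h3 => ?_⟩
  have e : (P.map (MulAut.conj g).symm.toMonoidHom).map (MulAut.conj g).toMonoidHom = P := by
    rw [map_map]; convert Subgroup.map_id P; ext x; simp
  rw [← e]
  congr 1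
  refine h.max _ ?_ ?_ (h3.map _)
  · intro x hx
    exact ⟨MulAut.conj g x, h1 ⟨x, hx, rfl⟩, by simp [mul_assoc]⟩
  · rintro _ ⟨x, hx, rfl⟩
    obtain ⟨y, hy, rfl⟩ := h2 hx
    simpa [mul_assoc] using hy

omit [Finite G] in
theorem map_conj_centralizer (g z : G) :
    (centralizer ({z} : Set G)).map (MulAut.conj g).toMonoidHom = centralizer ({g * z * g⁻¹} : Set G) := by
  ext x
  rw [mem_map_equiv, MulAut.conj_symm_apply, mem_C, mem_C]
  constructor
  · intro h
    calc x * (g * z * g⁻¹) = g * ((g⁻¹ * x * g) * z) * g⁻¹ := by group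
      _ = g * (z * (g⁻¹ * x * g)) * g⁻¹ := by rw [h]
      _ = g * z * g⁻¹ * x := by group
  · intro h
    calc g⁻¹ * x * g * z = g⁻¹ * (x * (g * z * g⁻¹)) * g := by group
      _ = g⁻¹ * ((g * z * g⁻¹) * x) * g := by rw [h]
      _ = z * (g⁻¹ * x * g) := by group

/-- The core of a centralizer meets two-groups trivially. -/
theorem eq_one_of_core {P : Subgroup G} (hP : IsPGroup 2 P) {x z : G} (hx : x ∈ P)
    (hxo : x ∈ core z) : x = 1 := by
  haveI : Fact (Nat.Prime 2) := ⟨Nat.prime_two⟩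
  have hcop : (Nat.card ↥(core z)).Coprime 2 := by
    rw [core, Cfsg.centralizerPPrimeCore, card_map_of_injective (Subgroup.subtype_injective _)]
    exact Cfsg.Lib.Core.pPrimeCore_coprime 2 _
  exact mem_bot.mp ((disjoint_of_isPGroup_coprime hP hcop) ▸ mem_inf.mpr ⟨hx, hxo⟩)

theorem eq_of_core {P : Subgroup G} (hP : IsPGroup 2 P) {x y z : G} (hx : x ∈ P) (hy : y ∈ P)
    (h : x⁻¹ * y ∈ core z) : x = y :=
  inv_mul_eq_one.mp (eq_one_of_core hP (mul_mem (inv_mem hx) hy) h)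

theorem core_conj {z x : G} (g : G) (hx : x ∈ core z) : g * x * g⁻¹ ∈ core (g * z * g⁻¹) := by
  obtain ⟨y, hy, rfl⟩ := hx
  have e : (centralizer ({z} : Set G)).map (MulAut.conj g).toMonoidHom =
      centralizer ({g * z * g⁻¹} : Set G) := by
    exact map_conj_centralizer g z
  let f : ↥(centralizer ({z} : Set G)) ≃* ↥(centralizer ({g * z * g⁻¹} : Set G)) :=
    ((MulAut.conj g).subgroupMap _).trans (MulEquiv.subgroupCongr e)
  refine ⟨f y, ?_, rfl⟩
  rw [← Cfsg.Lib.Core.map_pPrimeCore_equiv f]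
  exact mem_map_of_mem _ hy

theorem CompAt.conj {z : G} {L : Subgroup G} (h : CompAt z L) (g : G) :
    CompAt (g * z * g⁻¹) (L.map (MulAut.conj g).toMonoidHom) := by
  haveI : Fact (Nat.Prime 2) := ⟨Nat.prime_two⟩
  have e : (centralizer ({z} : Set G)).map (MulAut.conj g).toMonoidHom =
      centralizer ({g * z * g⁻¹} : Set G) := by
    exact map_conj_centralizer g z
  let f : ↥(centralizer ({z} : Set G)) ≃* ↥(centralizer ({g * z * g⁻¹} : Set G)) :=
    ((MulAut.conj g).subgroupMap _).trans (MulEquiv.subgroupCongr e)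
  refine ⟨e ▸ map_mono h.1, ?_⟩
  convert BBalance.isPComponent_map_equiv (p := 2) f h.2 using 1
  ext x
  constructor
  · intro hx
    obtain ⟨y, hy, hyx⟩ := mem_subgroupOf.mp hx
    exact ⟨⟨y, h.1 hy⟩, mem_subgroupOf.mpr hy, Subtype.ext hyx⟩
  · rintro ⟨y, hy, rfl⟩
    exact mem_subgroupOf.mpr ⟨y, mem_subgroupOf.mp hy, rfl⟩

theorem CompAt.conj_of_comm {z : G} {L : Subgroup G} (h : CompAt z L) {s : G}
    (hs : s * z = z * s) : CompAt z (L.map (MulAut.conj s).toMonoidHom) := by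
  simpa [conj_fix_of_comm hs] using h.conj s

theorem CompAt.normalize {z : G} {L M : Subgroup G} (hL : CompAt z L) (hM : CompAt z M) :
    M ≤ normalizer (L : Set G) := by
  haveI : Fact (Nat.Prime 2) := ⟨Nat.prime_two⟩
  intro m hm
  have h1 := pComponent_normalizes hL.2 hM.2 (mem_subgroupOf.mpr hm : (⟨m, hM.1 hm⟩ : ↥(centralizer ({z} : Set G))) ∈ _)
  refine mem_normalizer_iff.mpr fun x => ⟨fun hx => ?_, fun hx => ?_⟩
  · exact mem_subgroupOf.mp ((mem_normalizer_iff.mp h1 ⟨x, hL.1 hx⟩).mp (mem_subgroupOf.mpr hx))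
  · have hxC : x ∈ centralizer ({z} : Set G) := by
      have := mul_mem (mul_mem (inv_mem (hM.1 hm)) (hL.1 hx)) (hM.1 hm)
      simpa [mul_assoc] using this
    exact mem_subgroupOf.mp ((mem_normalizer_iff.mp h1 ⟨x, hxC⟩).mpr (mem_subgroupOf.mpr hx))

theorem CompAt.comm_core {z : G} {L M : Subgroup G} (hL : CompAt z L) (hM : CompAt z M)
    (hne : L ≠ M) {a b : G} (ha : a ∈ L) (hb : b ∈ M) : ⁅a, b⁆ ∈ core z := by
  haveI : Fact (Nat.Prime 2) := ⟨Nat.prime_two⟩
  have hne' : L.subgroupOf (centralizer ({z} : Set G)) ≠ M.subgroupOf _ := fun e => hne (by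
    rw [← map_subgroupOf_eq_of_le hL.1, e, map_subgroupOf_eq_of_le hM.1])
  exact ⟨_, (mem_inf.mp (pComponent_commutator_le hL.2 hM.2 hne'
    (commutator_mem_commutator (mem_subgroupOf.mpr ha : (⟨a, hL.1 ha⟩ : ↥(centralizer ({z} : Set G))) ∈ _)
      (mem_subgroupOf.mpr hb : (⟨b, hM.1 hb⟩ : ↥(centralizer ({z} : Set G))) ∈ _)))).1, rfl⟩

/-- In a two-group, elements of different components commute. -/
theorem CompAt.commute_exact {z : G} {L M : Subgroup G} (hL : CompAt z L) (hM : CompAt z M)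
    (hne : L ≠ M) {S : Subgroup G} (hS : IsPGroup 2 S) {a b : G} (haS : a ∈ S) (ha : a ∈ L)
    (hbS : b ∈ S) (hb : b ∈ M) : a * b = b * a := by
  refine commutatorElement_eq_one_iff_mul_comm.mp (eq_one_of_core hS ?_ (hL.comm_core hM hne ha hb))
  rw [commutatorElement_def]
  exact mul_mem (mul_mem (mul_mem haS hbS) (inv_mem haS)) (inv_mem hbS)

theorem CompAt.perfect {z : G} {L : Subgroup G} (hL : CompAt z L) : ⁅L, L⁆ = L := by
  haveI : Fact (Nat.Prime 2) := ⟨Nat.prime_two⟩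
  have := pComponent_perfect hL.2
  conv_rhs => rw [← map_subgroupOf_eq_of_le hL.1, ← this, map_commutator, map_subgroupOf_eq_of_le hL.1]

theorem Syl.inf_comp {S : Subgroup G} {z : G} (hS : Syl S (centralizer ({z} : Set G))) {L : Subgroup G}
    (hL : CompAt z L) : Syl (S ⊓ L) L := by
  haveI : Fact (Nat.Prime 2) := ⟨Nat.prime_two⟩
  set X := centralizer ({z} : Set G) with hX
  have hp : IsPGroup 2 ↥(S.subgroupOf X) := hS.isTwo.comap_subtype
  obtain ⟨P, hP⟩ := hp.exists_le_sylow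
  have hPS : (P : Subgroup ↥X) = S.subgroupOf X := by
    refine le_antisymm ?_ hP
    have e := hS.max ((P : Subgroup ↥X).map X.subtype) (fun s hs => ⟨⟨s, hS.le hs⟩, hP hs, rfl⟩)
      (map_subtype_le _) (P.2.map _)
    intro x hx
    exact mem_subgroupOf.mpr (e ▸ mem_map_of_mem X.subtype hx)
  have hidx := Cfsg.Lib.Solv.not_dvd_relIndex_of_isSubnormal P hL.2.1
  rw [hPS, relIndex_subgroupOf hL.1] at hidx
  refine ⟨inf_le_right, hS.isTwo.to_le inf_le_left, fun P' h1 h2 h3 => ?_⟩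
  have hd : (S ⊓ L).relIndex P' ∣ S.relIndex L := by
    rw [← inf_relIndex_right S L, ← relIndex_mul_relIndex _ _ _ h1 h2]
    exact Dvd.intro _ rfl
  obtain ⟨n, hn⟩ := (IsPGroup.iff_card.mp h3)
  obtain ⟨j, -, hj⟩ := (Nat.dvd_prime_pow Nat.prime_two).mp
    (hn ▸ relIndex_dvd_card (S ⊓ L) P')
  rcases j with _ | j
  · rw [pow_zero, relIndex_eq_one] at hj
    exact le_antisymm hj h1
  · exact absurd ((hj ▸ dvd_pow_self 2 (Nat.succ_ne_zero j) : 2 ∣ (S ⊓ L).relIndex P').trans hd) hidx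

/-- A component of the centralizer of `z` with unique involution `z`. -/
structure Intrinsic (J : Subgroup G) (z : G) : Prop where
  comp : CompAt z J
  mem : z ∈ J
  sq : z * z = 1
  ne : z ≠ 1
  uniq : ∀ t ∈ J, t * t = 1 → t = 1 ∨ t = z

omit [Finite G] in
theorem Intrinsic.comm {J : Subgroup G} {z : G} (h : Intrinsic J z) {x : G} (hx : x ∈ J) :
    x * z = z * x := mem_C.mp (h.comp.1 hx)

theorem Intrinsic.conj {J : Subgroup G} {z : G} (h : Intrinsic J z) (g : G) :
    Intrinsic (J.map (MulAut.conj g).toMonoidHom) (g * z * g⁻¹) := by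
  refine ⟨h.comp.conj g, ⟨z, h.mem, rfl⟩, ?_, fun e => h.ne (conj_eq_one_iff.mp e), ?_⟩
  · rw [show g * z * g⁻¹ * (g * z * g⁻¹) = g * (z * z) * g⁻¹ by group, h.sq, mul_one, mul_inv_cancel]
  · rintro _ ⟨t, ht, rfl⟩ e
    have e' : t * t = 1 := (MulAut.conj g).injective (by simpa using e)
    rcases h.uniq t ht e' with r | r
    · exact Or.inl (by rw [r, map_one])
    · exact Or.inr (by rw [r]; rfl)

omit [Finite G] in
/-- The normalizer of `J` centralizes `z`. -/
theorem Intrinsic.normalizer_comm {J : Subgroup G} {z : G} (h : Intrinsic J z) {x : G}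
    (hx : x ∈ normalizer (J : Set G)) : x * z = z * x := by
  rcases h.uniq _ ((mem_normalizer_iff.mp hx z).mp h.mem) (by
    rw [show x * z * x⁻¹ * (x * z * x⁻¹) = x * (z * z) * x⁻¹ by group, h.sq, mul_one, mul_inv_cancel]) with e | e
  · exact absurd (conj_eq_one_iff.mp e) h.ne
  · exact mul_inv_eq_iff_eq_mul.mp e

theorem Intrinsic.oneInvol {J : Subgroup G} {z : G} (h : Intrinsic J z) {Q : Subgroup G}
    (hQ : Syl Q J) : OneInvol Q z := by
  haveI : Fact (Nat.Prime 2) := ⟨Nat.prime_two⟩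
  have hzQ : z ∈ Q := by
    have e := hQ.max (zpowers z ⊔ Q) le_sup_right (sup_le (zpowers_le.mpr h.mem) hQ.le)
      (isTwo_sup hQ.isTwo (twoEl_of_invol h.sq) fun p hp => (h.comm (hQ.le hp)).symm)
    exact e ▸ mem_sup_left (Subgroup.mem_zpowers z)
  refine ⟨hQ.isTwo, hzQ, h.sq, h.ne, fun x hx => h.uniq x (hQ.le hx), fun hcyc => ?_⟩
  -- a perfect group has no cyclic Sylow subgroup containing a central involution
  have hp : IsPGroup 2 ↥(Q.subgroupOf J) := hQ.isTwo.comap_subtype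
  obtain ⟨P, hP⟩ := hp.exists_le_sylow
  have hPQ : ((P : Subgroup ↥J).map J.subtype) = Q := by
    refine hQ.max _ (fun q hq => ⟨⟨q, hQ.le hq⟩, hP hq, rfl⟩) (map_subtype_le _) (P.2.map _)
  haveI : IsMulCommutative (P : Subgroup ↥J) := by
    haveI := hcyc
    refine ⟨⟨fun a b => Subtype.ext (Subtype.ext ?_)⟩⟩
    obtain ⟨q, hq⟩ := IsCyclic.exists_generator (α := ↥Q)
    obtain ⟨i, hi⟩ := Subgroup.mem_zpowers_iff.mp (hq ⟨_, hPQ ▸ mem_map_of_mem J.subtype a.2⟩)
    obtain ⟨j, hj⟩ := Subgroup.mem_zpowers_iff.mp (hq ⟨_, hPQ ▸ mem_map_of_mem J.subtype b.2⟩)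
    have hi' := congrArg Subtype.val hi
    have hj' := congrArg Subtype.val hj
    simp only [Subgroup.coe_zpow, Subgroup.coe_subtype] at hi' hj'
    show ((a : ↥J) : G) * b = (b : ↥J) * a
    rw [← hi', ← hj']
    exact (Commute.zpow_zpow (Commute.refl _) i j).eq
  have hc := Cfsg.Lib.Fusion.inf_commutator_inf_center_eq_bot_sylow P
  have hperf : commutator ↥J = ⊤ := by
    refine map_injective J.subtype_injective ?_
    rw [map_subtype_commutator, h.comp.perfect, ← MonoidHom.range_eq_map, range_subtype]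
  rw [hperf, inf_top_eq] at hc
  refine h.ne (congrArg Subtype.val (mem_bot.mp (hc ▸ mem_inf.mpr ⟨?_, ?_⟩ : (⟨z, h.mem⟩ : ↥J) ∈ ⊥)))
  · exact hP hzQ
  · exact mem_center_iff.mpr fun x => Subtype.ext (h.comm x.2)

/-- Two different components share no element of order four with square `z`. -/
theorem Intrinsic.not_mem_other {J : Subgroup G} {z : G} (h : Intrinsic J z) {M : Subgroup G}
    (hM : CompAt z M) (hne : J ≠ M) {x : G} (hx : x ∈ J) (hxM : x ∈ M) (e : x * x = z) : False := by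
  haveI : Fact (Nat.Prime 2) := ⟨Nat.prime_two⟩
  have hx4 : TwoEl x := ⟨2, by
    refine orderOf_eq_prime_pow (p := 2) (n := 1) ?_ ?_
    · rw [pow_one, pow_two, e]; exact h.ne
    · rw [show (2 : ℕ) ^ (1 + 1) = 2 * 2 from rfl, pow_mul, pow_two, pow_two, e, h.sq]⟩
  obtain ⟨S, hxS, hS⟩ := Syl.exists_ge hx4.zpowers (zpowers_le.mpr (h.comp.1 hx))
  have hQ := h.oneInvol (hS.inf_comp h.comp)
  obtain ⟨q, hq, hne'⟩ := hQ.exists_not_commute (mem_inf.mpr ⟨hxS (Subgroup.mem_zpowers x), hx⟩) e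
  exact hne' (h.comp.commute_exact hM hne hS.isTwo (mem_inf.mp hq).1 (mem_inf.mp hq).2
    (hxS (Subgroup.mem_zpowers x)) hxM)

/-- An element of the centralizer fixing an element of order four of `J` normalizes `J`. -/
theorem Intrinsic.mem_normalizer_of_fixed {J : Subgroup G} {z : G} (h : Intrinsic J z) {g r : G}
    (hg : g * z = z * g) (hr : r ∈ J) (e : r * r = z) (hgr : g * r = r * g) :
    g ∈ normalizer (J : Set G) := by
  refine mem_normalizer_of_map_conj ?_
  by_contra hne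
  exact h.not_mem_other (h.comp.conj_of_comm hg) (Ne.symm hne) hr
    ⟨r, hr, by simp [hgr]⟩ e

end Cfsg.Lib.Sig.Intr
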