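import Cfsg.Agent.Lib.Sig.IntrinsicPair.Moving

/-!
The configuration in which `σ` acts on `J` as an element `a` moving `K`.
-/

set_option autoImplicit false
set_option linter.style.haveILetI false

namespace Cfsg.Lib.Sig.Intr

open Subgroup
open scoped commutatorElement

universe u

variable {G : Type u} [Group G] [Finite G] {J K D S T : Subgroup G} {z σ y : G}

namespace Moves

omit [Finite G] in
theorem swap (h : Moves J K z σ D S T y) {a : G} (ha : a ∈ S ⊓ J) (ea : a * a = z)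
    (hσa : a * σ = σ * a) (haK : a ∉ normalizer (K : Set G)) : Moves K J σ z D T S a :=
  ⟨h.pair.symm, h.frame.symm, h.σN, h.zN, ha.1, ha.2, hσa, haK, by rw [ea]; exact h.zN⟩

/-- The action of `z` on the Sylow subgroup of `K`, from an element negated by `σ`. -/
theorem z_acts (h : Moves J K z σ D S T y) (hy : y * y = σ) {b : G} (hb : b ∈ S ⊓ J) (eb : b * b = z)
    (hσb : σ * b * σ⁻¹ = b * z) : ∀ k ∈ T ⊓ K, z * k * z⁻¹ = y * k * y⁻¹ := by
  intro k hk
  have hg : y * y * b * (y * y)⁻¹ = b * z := by rw [hy]; exact hσb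
  have hvD := h.comm_mem hb (Or.inr hσb)
  set v := b * (y * b * y⁻¹)⁻¹ with hv
  have hvσ : v * σ = σ * v := mem_C.mp (mem_inf.mp (h.frame.hD.le hvD)).2
  have hvT : v ∈ T := h.frame.DT hvD
  have hz : z = (v * y * v⁻¹) * y⁻¹ := by
    rw [← h.comm_eq hb eb hg, commutatorElement_def]
  set y1 := v * y * v⁻¹
  have hk' : y⁻¹ * k * y ∈ T ⊓ K := mul_mem (mul_mem (mem_inf.mpr ⟨inv_mem h.yT, inv_mem h.yK⟩) hk)
    (mem_inf.mpr ⟨h.yT, h.yK⟩)
  have hc : (y⁻¹ * k * y) * y1 = y1 * (y⁻¹ * k * y) :=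
    h.pair.hK.comp.commute_exact (h.pair.hK.comp.conj_of_comm hvσ)
      (fun e => h.comm_move hb eb hg (mem_normalizer_of_map_conj e.symm)) h.frame.hT.isTwo hk'.1 hk'.2
      (mul_mem (mul_mem hvT h.yT) (inv_mem hvT)) ⟨y, h.yK, rfl⟩
  calc z * k * z⁻¹ = y1 * (y⁻¹ * k * y) * y1⁻¹ := by rw [hz]; group
    _ = y⁻¹ * k * y := by rw [← hc, mul_inv_cancel_right]
    _ = (y⁻¹ * y⁻¹) * (y * k * y⁻¹) * (y * y) := by group
    _ = σ⁻¹ * (y * k * y⁻¹) * σ := by rw [← mul_inv_rev, hy]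
    _ = y * k * y⁻¹ := by
      have hm : y * k * y⁻¹ ∈ K := mul_mem (mul_mem h.yK hk.2) (inv_mem h.yK)
      rw [mul_assoc, h.pair.hK.comm hm, inv_mul_cancel_left]

/-- The elements commuting with `y` in the Sylow subgroup of `K` are its powers. -/
theorem centralizer_y (h : Moves J K z σ D S T y) (hy : y * y = σ)
    {a : G} (ha : a ∈ S ⊓ J) (ea : a * a = z) (hσa : a * σ = σ * a) (haK : a ∉ normalizer (K : Set G))
    (hu : (a * y * a⁻¹) * y⁻¹ = σ * z) (hact : ∀ k ∈ T ⊓ K, z * k * z⁻¹ = y * k * y⁻¹) :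
    ∀ c ∈ T ⊓ K, c * y = y * c → c ∈ Subgroup.zpowers y := by
  haveI : Fact (Nat.Prime 2) := ⟨Nat.prime_two⟩
  intro c hc hcy
  by_contra hcY
  have hQK := h.hQK
  have hyQ : y ∈ T ⊓ K := mem_inf.mpr ⟨h.yT, h.yK⟩
  have hσY : σ ∈ Subgroup.zpowers y := hy ▸ mul_mem (Subgroup.mem_zpowers y) (Subgroup.mem_zpowers y)
  have h4 : 4 ≤ orderOf c := by
    rcases hQK.order_cases hc with e | e | e
    · exact absurd (e ▸ one_mem _) hcY
    · exact absurd (e ▸ hσY) hcY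
    · exact e
  have hyc := hQK.four_mem_zpowers hyQ hy hc hcy.symm h4
  obtain ⟨k, hk⟩ := twoEl_of_mem hQK.isTwo hc
  have h8 : 3 ≤ k := by
    by_contra h8
    have he : orderOf c = 4 := by
      have h2 : orderOf c ≤ 2 ^ 2 := hk ▸ Nat.pow_le_pow_right two_pos (show k ≤ 2 by omega)
      omega
    rcases hQK.eq_of_commute hc hyQ (hQK.sq_eq hc he) hy hcy with e | e
    · exact hcY (e ▸ Subgroup.mem_zpowers y)
    · exact hcY (by rw [← inv_inv c, ← e]; exact inv_mem (Subgroup.mem_zpowers y))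
  obtain ⟨j, rfl⟩ : ∃ j, k = j + 3 := ⟨k - 3, by omega⟩
  set w := c ^ 2 ^ j with hw
  have hwQ : w ∈ T ⊓ K := pow_mem hc _
  have how : orderOf w = 8 := by
    rw [hw, orderOf_pow' _ (pow_ne_zero _ two_ne_zero), hk, pow_add, Nat.gcd_mul_right_left,
      Nat.mul_div_cancel_left _ (pow_pos two_pos j)]
    norm_num
  have hwy : Commute w y := (show Commute c y from hcy).pow_left _
  have hw2 : orderOf (w * w) = 4 := by
    rw [← pow_two, orderOf_pow' _ two_ne_zero, how]; rfl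
  have hw2y := hQK.eq_of_commute hyQ (mul_mem hwQ hwQ) hy (hQK.sq_eq (mul_mem hwQ hwQ) hw2)
    (hwy.symm.mul_right hwy.symm).eq
  have hwz : w * z = z * w := by
    have e := hact w hwQ
    rw [hwy.symm.eq, mul_inv_cancel_right] at e
    exact (mul_inv_eq_iff_eq_mul.mp e).symm
  have hwD : w ∈ D := h.frame.mem_right hwQ.1 hwz
  have haD : a ∈ D := h.frame.mem_left ha.1 hσa
  set e' := a * w * a⁻¹ * w⁻¹ with he'
  have c1 : Commute (a * w * a⁻¹) w :=
    (h.pair.hK.comp.conj_of_comm hσa).commute_exact h.pair.hK.comp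
      (fun e => haK (mem_normalizer_of_map_conj e)) h.frame.hT.isTwo
      (mul_mem (mul_mem (h.frame.DT haD) hwQ.1) (inv_mem (h.frame.DT haD))) ⟨w, hwQ.2, rfl⟩ hwQ.1 hwQ.2
  have hsqT : e' * e' = (a * (w * w) * a⁻¹) * (w * w)⁻¹ := by
    rw [he', show a * w * a⁻¹ * w⁻¹ * (a * w * a⁻¹ * w⁻¹) = a * w * a⁻¹ * (w⁻¹ * (a * w * a⁻¹)) * w⁻¹ by group,
      ← c1.inv_right.eq]
    group
  have hwJ : w ∉ normalizer (J : Set G) := fun hwN => by
    have h1 : w * w ∈ normalizer (J : Set G) := mul_mem hwN hwN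
    rcases hw2y with e | e <;> rw [e] at h1
    · exact h.ymove h1
    · exact h.ymove (inv_inv y ▸ inv_mem h1)
  have c2 : Commute a (w * a * w⁻¹) :=
    h.pair.hJ.comp.commute_exact (h.pair.hJ.comp.conj_of_comm hwz)
      (fun e => hwJ (mem_normalizer_of_map_conj e.symm)) h.frame.hS.isTwo ha.1 ha.2
      (mul_mem (mul_mem (h.frame.DS hwD) ha.1) (inv_mem (h.frame.DS hwD))) ⟨a, ha.2, rfl⟩
  have hsqS : e' * e' = 1 := by
    have e1 : e' = a * (w * a * w⁻¹)⁻¹ := by rw [he']; group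
    rw [e1, show a * (w * a * w⁻¹)⁻¹ * (a * (w * a * w⁻¹)⁻¹) =
      a * ((w * a * w⁻¹)⁻¹ * a) * (w * a * w⁻¹)⁻¹ by group, ← c2.inv_right.eq,
      show a * (a * (w * a * w⁻¹)⁻¹) * (w * a * w⁻¹)⁻¹ = (a * a) * (w * (a * a)⁻¹ * w⁻¹) by group, ea,
      h.hQ.inv_z, hwz, mul_inv_cancel_right, h.pair.hJ.sq]
  rw [hsqT] at hsqS
  have hcyz : σ * z = 1 := by
    rw [← hu]
    rcases hw2y with e | e <;> rw [e] at hsqS
    · exact hsqS
    · have h2 : a * y⁻¹ * a⁻¹ = y⁻¹ := mul_inv_eq_one.mp hsqS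
      have h3 : a * y * a⁻¹ = y := by
        rw [show a * y * a⁻¹ = (a * y⁻¹ * a⁻¹)⁻¹ by group, h2, inv_inv]
      rw [h3, mul_inv_cancel]
  exact h.pair.ne.symm (by rw [← h.hQ.inv_z]; exact eq_inv_of_mul_eq_one_left hcyz)

/-- The configuration is impossible. -/
theorem false_config (h : Moves J K z σ D S T y) (hy : y * y = σ) {a : G} (ha : a ∈ S ⊓ J)
    (ea : a * a = z) (hσa : a * σ = σ * a) (haK : a ∉ normalizer (K : Set G))
    (hactJ : ∀ b ∈ S ⊓ J, σ * b * σ⁻¹ = a * b * a⁻¹) : False := by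
  haveI : Fact (Nat.Prime 2) := ⟨Nat.prime_two⟩
  have hQ := h.hQ
  have hQK := h.hQK
  have haD : a ∈ D := h.frame.mem_left ha.1 hσa
  obtain ⟨x, hx, hxa, ex⟩ := hQ.exists_inverter ha ea
  have hσx : σ * x * σ⁻¹ = x * z := by
    rw [hactJ x hx]
    exact swap_inverter h.pair.hJ.sq (h.pair.hJ.comm hx.2) (h.pair.hJ.comm ha.2) hxa
  have hact := h.z_acts hy hx ex hσx
  have hg : y * y * x * (y * y)⁻¹ = x * z := by rw [hy]; exact hσx
  have hvD := h.comm_mem hx (Or.inr hσx)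
  have hvmove := h.comm_move hx ex hg
  have hve := h.comm_eq hx ex hg
  set x' := y * x * y⁻¹ with hx'
  set v := x * x'⁻¹ with hv
  set a' := y * a * y⁻¹ with ha'
  have ea' : a' * a' = z := conj_sq ea h.yz
  have caa : Commute a a' := h.cross ha ha
  set u := a * a'⁻¹ with hu
  have huy : u = (a * y * a⁻¹) * y⁻¹ := by rw [hu, ha']; group
  have hu2 : u * u = 1 := by
    rw [hu, show a * a'⁻¹ * (a * a'⁻¹) = a * (a'⁻¹ * a) * a'⁻¹ by group, ← caa.inv_right.eq,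
      show a * (a * a'⁻¹) * a'⁻¹ = (a * a) * (a' * a')⁻¹ by group, ea, ea', mul_inv_cancel]
  have hyzc : y * z * y⁻¹ = z := by rw [h.yz, mul_inv_cancel_right]
  have hvu : v * u * v⁻¹ = u := by
    have c1 : Commute a x' := h.cross ha hx
    have c2 : Commute x a' := h.cross hx ha
    have hz' : x * z * x⁻¹ = z := by rw [← hQ.comm hx, mul_inv_cancel_right]
    have exi : x⁻¹ * a * x = a * z := by
      have h1 : x * (a * z) * x⁻¹ = a := by
        rw [show x * (a * z) * x⁻¹ = (x * a * x⁻¹) * (x * z * x⁻¹) by group, hxa, hz', mul_assoc,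
          h.pair.hJ.sq, mul_one]
      conv_lhs => rw [← h1]
      group
    have e1 : x'⁻¹ * a' * x' = a' * z := by
      calc x'⁻¹ * a' * x' = y * (x⁻¹ * a * x) * y⁻¹ := by rw [hx', ha']; group
        _ = a' * (y * z * y⁻¹) := by rw [exi, ha']; group
        _ = a' * z := by rw [hyzc]
    calc v * u * v⁻¹ = x * (x'⁻¹ * a * x') * (x'⁻¹ * a' * x')⁻¹ * x⁻¹ := by rw [hv, hu]; group
      _ = x * a * (a' * z)⁻¹ * x⁻¹ := by
        rw [e1, show x'⁻¹ * a * x' = a by rw [← c1.inv_right.eq, inv_mul_cancel_right]]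
      _ = (x * a * x⁻¹) * ((x * z * x⁻¹)⁻¹ * (x * a'⁻¹ * x⁻¹)) := by group
      _ = a * z * (z⁻¹ * a'⁻¹) := by rw [hxa, hz', c2.inv_right.eq, mul_inv_cancel_right]
      _ = u := by rw [hu]; group
  -- `v * a` normalizes `K`
  have hvσ : v * σ = σ * v := mem_C.mp (mem_inf.mp (h.frame.hD.le hvD)).2
  have hvT := h.frame.DT hvD
  have haT := h.frame.DT haD
  have hyQ : y ∈ T ⊓ K := mem_inf.mpr ⟨h.yT, h.yK⟩
  have hcomm : ∀ {g : G}, g ∈ T → g * σ = σ * g → g ∉ normalizer (K : Set G) →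
      ∀ k ∈ T ⊓ K, (g * y * g⁻¹) * k * (g * y * g⁻¹)⁻¹ = k := by
    intro g hgT hgσ hgK k hk
    have hc : k * (g * y * g⁻¹) = g * y * g⁻¹ * k :=
      h.pair.hK.comp.commute_exact (h.pair.hK.comp.conj_of_comm hgσ)
        (fun e => hgK (mem_normalizer_of_map_conj e.symm)) h.frame.hT.isTwo hk.1 hk.2
        (mul_mem (mul_mem hgT h.yT) (inv_mem hgT)) ⟨y, h.yK, rfl⟩
    rw [← hc, mul_inv_cancel_right]
  have hw : v * a ∈ normalizer (K : Set G) := by
    by_contra hw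
    obtain ⟨k, hk, hky⟩ := hQK.exists_not_commute hyQ hy
    apply hky
    have hk1 : y⁻¹ * k * y ∈ T ⊓ K := mul_mem (mul_mem (inv_mem hyQ) hk) hyQ
    have h1 : u * k * u⁻¹ = y⁻¹ * k * y := by
      rw [huy, show a * y * a⁻¹ * y⁻¹ * k * (a * y * a⁻¹ * y⁻¹)⁻¹ =
        a * y * a⁻¹ * (y⁻¹ * k * y) * (a * y * a⁻¹)⁻¹ by group]
      exact hcomm haT hσa haK _ hk1
    have hvc := hcomm hvT hvσ hvmove k hk
    have h2 : u * k * u⁻¹ = k := by
      have e1 : u = ((v * a) * y * (v * a)⁻¹) * (v * y * v⁻¹)⁻¹ := by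
        conv_lhs => rw [← hvu, huy]
        group
      have hvc' : (v * y * v⁻¹)⁻¹ * k * (v * y * v⁻¹) = k := by
        conv_lhs => rw [← hvc]
        group
      calc u * k * u⁻¹ = ((v * a) * y * (v * a)⁻¹) * ((v * y * v⁻¹)⁻¹ * k * (v * y * v⁻¹)) *
            ((v * a) * y * (v * a)⁻¹)⁻¹ := by rw [e1]; group
        _ = k := by
          rw [hvc']
          exact hcomm (mul_mem hvT haT) ((show Commute v σ from hvσ).mul_left (show Commute a σ from hσa)).eq hw k hk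
    rw [h2] at h1
    calc k * y = y * (y⁻¹ * k * y) := by group
      _ = y * k := by rw [← h1]
  -- hence `u = σ z`
  have huD : u ∈ D := h.comm_mem ha (Or.inl (by rw [← hσa, mul_inv_cancel_right]))
  have huz' : u * z = z * u := mem_C.mp (mem_inf.mp (h.frame.hD.le huD)).1
  have huz : u = σ * z := by
    have hm : u * z ∈ K := by
      have e1 : v * a * y * (v * a)⁻¹ * y⁻¹ = (v * u * v⁻¹) * ⁅v, y⁆ := by
        rw [huy, commutatorElement_def]; group
      rw [← hvu, ← hve, ← e1]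
      exact mul_mem ((mem_normalizer_iff.mp hw y).mp h.yK) (inv_mem h.yK)
    have hsq : u * z * (u * z) = 1 := by
      rw [show u * z * (u * z) = u * (z * u) * z by group, ← huz',
        show u * (u * z) * z = (u * u) * (z * z) by group, hu2, h.pair.hJ.sq, one_mul]
    rcases h.pair.hK.uniq _ hm hsq with e | e
    · exfalso
      have e1 : u = z := by rw [← hQ.inv_z]; exact eq_inv_of_mul_eq_one_left e
      have e2 : a = z * a' := by rw [← e1, hu, inv_mul_cancel_right]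
      refine h.pair.hJ.not_mem_other h.comp' h.ne' ha.2 ?_ ea
      rw [e2]
      exact mul_mem ⟨z, h.pair.hJ.mem, hyzc⟩ ⟨a, ha.2, rfl⟩
    · rw [← e, mul_assoc, h.pair.hJ.sq, mul_one]
  -- an inverter conjugate to `y`
  obtain ⟨x2, hx2, ex2, hx2y, k, hk, hkx⟩ := h.pair.hK.exists_conj_inverter
    (h.frame.hT.inf_comp h.pair.hK.comp) hyQ hy
    (h.centralizer_y hy ha ea hσa haK (huy ▸ huz) hact)
  have hzx2 : z * x2 * z⁻¹ = x2 * σ := by
    rw [hact x2 hx2]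
    exact swap_inverter h.pair.hK.sq (h.pair.hK.comm hx2.2) (h.pair.hK.comm h.yK) hx2y
  have hM := h.swap ha ea hσa haK
  have hga : a * a * x2 * (a * a)⁻¹ = x2 * σ := by rw [ea]; exact hzx2
  have hv2D : x2 * (a * x2 * a⁻¹)⁻¹ ∈ D := hM.comm_mem hx2 (Or.inr hzx2)
  have hv2J := hM.comm_move hx2 ex2 hga
  have hv2e := hM.comm_eq hx2 ex2 hga
  set x2' := a * x2 * a⁻¹ with hx2'
  set v2 := x2 * x2'⁻¹ with hv2
  have ex2' : x2' * x2' = σ := conj_sq ex2 hσa
  have cx2 : Commute x2 x2' := hM.cross hx2 hx2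
  have hv22 : v2 * v2 = 1 := by
    rw [hv2, show x2 * x2'⁻¹ * (x2 * x2'⁻¹) = x2 * (x2'⁻¹ * x2) * x2'⁻¹ by group, ← cx2.inv_right.eq,
      show x2 * (x2 * x2'⁻¹) * x2'⁻¹ = (x2 * x2) * (x2' * x2')⁻¹ by group, ex2, ex2', mul_inv_cancel]
  obtain ⟨hv2z, hv2σ⟩ := mem_inf.mp (h.frame.hD.le hv2D)
  set s := v2 * σ with hs
  have hs2 : s * s = 1 := by
    rw [hs, show v2 * σ * (v2 * σ) = v2 * (σ * v2) * σ by group, ← mem_C.mp hv2σ,
      show v2 * (v2 * σ) * σ = (v2 * v2) * (σ * σ) by group, hv22, h.pair.hK.sq, one_mul]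
  have hsz : s * z = z * s :=
    ((show Commute v2 z from mem_C.mp hv2z).mul_left (show Commute σ z from h.zσ.symm)).eq
  have hsJ : s ∉ normalizer (J : Set G) := fun hsN => hv2J (by
    have := mul_mem hsN (inv_mem h.σN)
    rwa [hs, mul_inv_cancel_right] at this)
  have hsS : s ∈ S := mul_mem (h.frame.DS hv2D) (h.frame.DS h.σD)
  -- `z` and `s` are congruent modulo the core of the centralizer of `σ`
  set U := centralizer ({σ} : Set G) with hU
  set g := (a * k * a⁻¹) * k with hgdef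
  have hkU : k ∈ U := h.pair.hK.comp.1 hk
  have haU : a ∈ U := mem_C.mpr hσa
  have hgU : g ∈ U := mul_mem (mul_mem (mul_mem haU hkU) (inv_mem haU)) hkU
  set p := g * z * g⁻¹ with hp
  have hzU : z ∈ U := mem_C.mpr h.zσ
  have hpU : p ∈ U := mul_mem (mul_mem hgU hzU) (inv_mem hgU)
  have hsU : s ∈ U := mul_mem hv2σ (mem_C.mpr rfl)
  have hp2 : p * p = 1 := by
    rw [hp, show g * z * g⁻¹ * (g * z * g⁻¹) = g * (z * z) * g⁻¹ by group, h.pair.hJ.sq, mul_one, mul_inv_cancel]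
  have hcore : p⁻¹ * s ∈ core σ := by
    let f := QuotientGroup.mk' (Cfsg.pPrimeCore 2 ↥U)
    let K' := K.map (MulAut.conj a).toMonoidHom
    have hK' : CompAt σ K' := h.pair.hK.comp.conj_of_comm hσa
    have hne : K ≠ K' := fun e => haK (mem_normalizer_of_map_conj e.symm)
    have hcomm' : ∀ (p q : ↥U), (p : G) ∈ K → (q : G) ∈ K' → f p * f q = f q * f p := by
      intro p q hp hq
      rw [← commutatorElement_eq_one_iff_mul_comm, ← map_commutatorElement]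
      obtain ⟨c, hc, hce⟩ := h.pair.hK.comp.comm_core hK' hne hp hq
      exact (QuotientGroup.eq_one_iff _).mpr ((Subtype.ext hce : c = ⁅p, q⁆) ▸ hc)
    have hyU : y ∈ U := h.pair.hK.comp.1 h.yK
    have hxU : x2 ∈ U := h.pair.hK.comp.1 hx2.2
    let aU : ↥U := ⟨a, haU⟩
    let kU : ↥U := ⟨k, hkU⟩
    let yU : ↥U := ⟨y, hyU⟩
    let σU : ↥U := ⟨σ, mem_C.mpr rfl⟩
    let xU : ↥U := ⟨x2, hxU⟩
    have hσc : ∀ q : ↥U, Commute (f σU) (f q) := fun q => by
      show f σU * f q = f q * f σU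
      rw [← map_mul, ← map_mul]; exact congrArg f (Subtype.ext (mem_C.mp q.2).symm)
    have hzU' : (⟨z, hzU⟩ : ↥U) = (aU * yU * aU⁻¹) * yU⁻¹ * σU := Subtype.ext (by
      show z = a * y * a⁻¹ * y⁻¹ * σ
      rw [← huy, huz, mul_assoc, h.zσ, ← mul_assoc, h.pair.hK.sq, one_mul])
    have hkx' : kU * yU * kU⁻¹ = xU := Subtype.ext hkx
    set A := f (aU * kU * aU⁻¹) with hA
    set H := f kU with hH
    set X := f (aU * yU * aU⁻¹) with hX
    have cHX : H * X = X * H := hcomm' _ _ hk ⟨y, h.yK, rfl⟩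
    have cAx : f xU * A = A * f xU := hcomm' _ _ hx2.2 ⟨k, hk, rfl⟩
    have e1 : f (⟨g, hgU⟩ * ⟨z, hzU⟩ * ⟨g, hgU⟩⁻¹) = f ⟨s, hsU⟩ := by
      have eg : (⟨g, hgU⟩ : ↥U) = (aU * kU * aU⁻¹) * kU := Subtype.ext rfl
      have es : (⟨s, hsU⟩ : ↥U) = ((aU * xU * aU⁻¹) * xU⁻¹) * σU := Subtype.ext (by
        show v2 * σ = a * x2 * a⁻¹ * x2⁻¹ * σ
        rw [← hx2', show x2' * x2⁻¹ = v2⁻¹ by rw [hv2]; group, inv_eq_of_mul_eq_one_right hv22])
      have eX : f (aU * xU * aU⁻¹) = A * X * A⁻¹ := by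
        rw [hA, hX, ← hkx', ← map_mul, ← map_inv, ← map_mul]; congr 1; group
      rw [map_mul f, map_mul f, map_inv f,
        eg, es, hzU', map_mul f (aU * kU * aU⁻¹) kU, map_mul f (aU * yU * aU⁻¹ * yU⁻¹) σU,
        map_mul f (aU * yU * aU⁻¹) yU⁻¹, map_inv f yU, map_mul f (aU * xU * aU⁻¹ * xU⁻¹) σU,
        map_mul f (aU * xU * aU⁻¹) xU⁻¹, map_inv f xU, eX, ← hA, ← hH, ← hX]
      have eHY : H * f yU * H⁻¹ = f xU := by rw [hH, ← hkx', map_mul f, map_mul f, map_inv f]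
      calc A * H * (X * (f yU)⁻¹ * f σU) * (A * H)⁻¹
          = A * (H * X) * ((f yU)⁻¹ * f σU * H⁻¹) * A⁻¹ := by group
        _ = A * (X * H) * ((f yU)⁻¹ * (H⁻¹ * f σU)) * A⁻¹ := by
          rw [cHX, mul_assoc ((f yU)⁻¹), (hσc kU).inv_right.eq]
        _ = A * X * (H * f yU * H⁻¹)⁻¹ * (f σU * A⁻¹) := by group
        _ = A * X * (f xU)⁻¹ * (A⁻¹ * f σU) := by
          rw [eHY, (hσc (aU * kU * aU⁻¹)).inv_right.eq]
        _ = A * X * ((f xU)⁻¹ * A⁻¹) * f σU := by group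
        _ = A * X * (A⁻¹ * (f xU)⁻¹) * f σU := by
          rw [((show Commute (f xU) A from cAx).inv_inv).eq]
        _ = A * X * A⁻¹ * (f xU)⁻¹ * f σU := by group
    exact ⟨_, QuotientGroup.eq.mp e1, rfl⟩
  have hop : orderOf p = 2 := orderOf_eq_prime (by rw [pow_two]; exact hp2)
    fun e => h.pair.hJ.ne (conj_eq_one_iff.mp e)
  have hos : orderOf s = 2 := orderOf_eq_prime (by rw [pow_two]; exact hs2) fun e => hsJ (e ▸ one_mem _)
  have hodd : Odd (orderOf (p * s)) := by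
    rw [inv_eq_of_mul_eq_one_right hp2] at hcore
    refine Nat.coprime_two_right.mp (Nat.Coprime.coprime_dvd_left ?_
      (show (Nat.card ↥(core σ)).Coprime 2 from ?_))
    · rw [← Nat.card_zpowers]; exact card_dvd_of_le (zpowers_le.mpr hcore)
    · rw [core, Cfsg.centralizerPPrimeCore, card_map_of_injective (Subgroup.subtype_injective _)]
      exact Cfsg.Lib.Core.pPrimeCore_coprime 2 _
  obtain ⟨d, hd, hdp⟩ := Cfsg.Lib.Invol.exists_conj_of_odd hop hos hodd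
  have hdU : d ∈ U := ((closure_le U).mpr (by rintro q (rfl | rfl); exacts [hpU, hsU])) hd
  set g2 := d * g with hg2
  have hg2z : g2 * z * g2⁻¹ = s := by rw [← hdp, hg2, hp]; group
  have hg2σ : g2 * σ = σ * g2 := mem_C.mp (mul_mem hdU hgU)
  have hJs := h.pair.hJ.conj g2
  rw [hg2z] at hJs
  have hP : Pair J (J.map (MulAut.conj g2).toMonoidHom) z s :=
    ⟨h.pair.hJ, hJs, (qcard_conj _ _).symm, fun e => hsJ (e ▸ le_normalizer h.pair.hJ.mem)⟩
  refine hsJ (hP.norm_two ?_)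
  have hlay := hJs.comp.pLayer_le_normalizer
    (diag_mem h.pair.hJ.comp (twoEl_of_invol h.pair.hJ.sq) hs2 hsz hsJ h.frame.hS.isTwo hsS ha.1 ha.2)
  have hsa : s * a * s⁻¹ = σ * a := by
    rw [hs, show v2 * σ * a * (v2 * σ)⁻¹ = v2 * (σ * a * σ⁻¹) * v2⁻¹ by group,
      show σ * a * σ⁻¹ = a by rw [← hσa, mul_inv_cancel_right],
      ← hv2e, commutatorElement_def]
    group
  have hzσN : z * σ ∈ normalizer ((J.map (MulAut.conj g2).toMonoidHom : Subgroup G) : Set G) := by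
    rw [hsa, ← hσa, ← mul_assoc, ea] at hlay
    exact hlay
  have hσN : σ ∈ normalizer ((J.map (MulAut.conj g2).toMonoidHom : Subgroup G) : Set G) := by
    refine mem_normalizer_fintype ?_
    rintro _ ⟨q, hq, rfl⟩
    refine ⟨σ * q * σ⁻¹, (mem_normalizer_iff.mp h.σN q).mp hq, ?_⟩
    show g2 * (σ * q * σ⁻¹) * g2⁻¹ = σ * (g2 * q * g2⁻¹) * σ⁻¹
    calc g2 * (σ * q * σ⁻¹) * g2⁻¹ = (g2 * σ) * q * (g2 * σ)⁻¹ := by group
      _ = _ := by rw [hg2σ]; group
  simpa using mul_mem hzσN (inv_mem hσN)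

end Moves

end Cfsg.Lib.Sig.Intr
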