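import Cfsg.Agent.Lib.Sig.IntrinsicPair.PartTwo
import Mathlib.GroupTheory.Focal

/-!
An element of order four with cyclic centralizer is conjugate to one inverting it.
-/

set_option autoImplicit false
set_option linter.style.haveILetI false

namespace Cfsg.Lib.Sig.Intr

open Subgroup
open scoped commutatorElement

universe u

variable {G : Type u} [Group G] [Finite G]

theorem Intrinsic.exists_conj_inverter {K : Subgroup G} {σ : G} (h : Intrinsic K σ) {Q : Subgroup G}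
    (hQ : Syl Q K) {y : G} (hy : y ∈ Q) (ey : y * y = σ)
    (hcy : ∀ c ∈ Q, c * y = y * c → c ∈ Subgroup.zpowers y) :
    ∃ x ∈ Q, x * x = σ ∧ x * y * x⁻¹ = y * σ ∧ ∃ k ∈ K, k * y * k⁻¹ = x := by
  haveI : Fact (Nat.Prime 2) := ⟨Nat.prime_two⟩
  have hO := h.oneInvol hQ
  set Y := Subgroup.zpowers y with hY
  by_cases hn : ∃ t ∈ Q, t * y * t⁻¹ ∉ Y
  · -- the normalizer of the stabilizer of `Y`
    set P := Q ⊓ normalizer (Y : Set G) with hP
    have hlt : P < Q := lt_of_le_of_ne inf_le_left fun e => by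
      obtain ⟨t, ht, htY⟩ := hn
      exact htY ((mem_normalizer_iff.mp (mem_inf.mp (e ▸ ht : t ∈ P)).2 y).mp (Subgroup.mem_zpowers y))
    obtain ⟨t, htm, htP⟩ := SetLike.exists_of_lt (Cfsg.Lib.Fusion.lt_inf_normalizer hO.isTwo hlt)
    obtain ⟨htQ, htN⟩ := mem_inf.mp htm
    have hyP : y ∈ P := mem_inf.mpr ⟨hy, le_normalizer (Subgroup.mem_zpowers y)⟩
    obtain ⟨hxQ, hxN⟩ := mem_inf.mp ((mem_normalizer_iff.mp htN y).mp hyP)
    set x := t * y * t⁻¹ with hx
    have ex : x * x = σ := by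
      rw [hx, show t * y * t⁻¹ * (t * y * t⁻¹) = t * (y * y) * t⁻¹ by group, ey, ← hO.comm htQ,
        mul_inv_cancel_right]
    have hxY : x ∉ Y := fun hm => htP (mem_inf.mpr ⟨htQ, mem_normalizer_of_map_conj
      (eq_of_le_of_card_ge (by rw [hY, MonoidHom.map_zpowers]; exact zpowers_le.mpr hm)
        (le_of_eq (card_map_of_injective (MulAut.conj t).injective).symm))⟩)
    refine ⟨x, hxQ, ex, ?_, t, hQ.le htQ, rfl⟩
    have hxy := (mem_normalizer_iff.mp hxN y).mp (Subgroup.mem_zpowers y)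
    have e2 : x * y * x⁻¹ * (x * y * x⁻¹) = σ := by
      rw [show x * y * x⁻¹ * (x * y * x⁻¹) = x * (y * y) * x⁻¹ by group, ey, ← hO.comm hxQ,
        mul_inv_cancel_right]
    obtain ⟨n, hn'⟩ := Subgroup.mem_zpowers_iff.mp hxy
    rcases hO.eq_of_commute hy (mul_mem (mul_mem hxQ hy) (inv_mem hxQ)) ey e2
      (hn' ▸ (Commute.refl y).zpow_right n) with e | e
    · exact absurd (hcy x hxQ (mul_inv_eq_iff_eq_mul.mp e)) hxY
    · rw [e, hO.inv_eq ey]
  -- every element centralizes or inverts `y`; then use the focal subgroup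
  push Not at hn
  by_contra hne
  push Not at hne
  have hYc : ∀ q ∈ Y, q * y = y * q := by
    rintro _ ⟨i, rfl⟩
    exact ((Commute.refl y).zpow_left i).eq
  have hout : ∀ q ∈ Q, q ∉ Y → q * y * q⁻¹ = y * σ ∧ q * q = σ := by
    intro q hq hqY
    obtain ⟨n, hn'⟩ := Subgroup.mem_zpowers_iff.mp (hn q hq)
    have e2 : q * y * q⁻¹ * (q * y * q⁻¹) = σ := by
      rw [show q * y * q⁻¹ * (q * y * q⁻¹) = q * (y * y) * q⁻¹ by group, ey, ← hO.comm hq,
        mul_inv_cancel_right]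
    rcases hO.eq_of_commute hy (mul_mem (mul_mem hq hy) (inv_mem hq)) ey e2
      (hn' ▸ (Commute.refl y).zpow_right n) with e | e
    · exact absurd (hcy q hq (mul_inv_eq_iff_eq_mul.mp e)) hqY
    · rw [hO.inv_eq ey] at e
      exact ⟨e, hO.inverter_sq hy ey hq e⟩
  have hYQ : Y ≤ Q := zpowers_le.mpr hy
  -- no conjugation crosses the boundary of `Y`
  have hstay : ∀ q ∈ Y, ∀ k ∈ K, k * q * k⁻¹ ∈ Q → k * q * k⁻¹ ∈ Y := by
    intro q hq k hk hm
    by_contra hmY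
    obtain ⟨hinv, hsq⟩ := hout _ hm hmY
    have eq2 : q * q = σ := by
      have h1 : k * (q * q) * k⁻¹ = σ := by rw [← hsq]; group
      calc q * q = k⁻¹ * (k * (q * q) * k⁻¹) * k := by group
        _ = σ := by rw [h1, mul_assoc, ← h.comm hk, inv_mul_cancel_left]
    rcases hO.eq_of_commute hy (hYQ hq) ey eq2 (hYc q hq).symm with rfl | rfl
    · exact hne _ hm hsq hinv k hk rfl
    · refine hne (k * y * k⁻¹) ?_ ?_ ?_ k hk rfl
      · simpa [mul_assoc] using inv_mem hm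
      · rw [show k * y * k⁻¹ * (k * y * k⁻¹) = k * (y * y) * k⁻¹ by group, ey, h.comm hk,
          mul_inv_cancel_right]
      · have e1 : k * y * k⁻¹ = (k * y⁻¹ * k⁻¹)⁻¹ := by group
        have hm' : k * y⁻¹ * k⁻¹ = (k * y * k⁻¹) * σ := by
          rw [hO.inv_eq ey, show k * (y * σ) * k⁻¹ = (k * y * k⁻¹) * (k * σ * k⁻¹) by group, h.comm hk,
            mul_inv_cancel_right]
        rw [hm', show k * y * k⁻¹ * σ * y * (k * y * k⁻¹ * σ)⁻¹ =
          k * y * k⁻¹ * (σ * y * σ⁻¹) * (k * y * k⁻¹)⁻¹ by group, hO.comm hy, mul_inv_cancel_right] at hinv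
        exact hinv
  have hp : IsPGroup 2 ↥(Q.subgroupOf K) := hQ.isTwo.comap_subtype
  obtain ⟨P, hP⟩ := hp.exists_le_sylow
  have hPQ : (P : Subgroup ↥K).map K.subtype = Q :=
    hQ.max _ (fun q hq => ⟨⟨q, hQ.le hq⟩, hP hq, rfl⟩) (map_subtype_le _) (P.2.map _)
  have hfoc : (P : Subgroup ↥K).focalSubgroup = (P : Subgroup ↥K) := by
    rw [← commutator_inf_eq_focalSubgroup]
    have hperf : commutator ↥K = ⊤ := by
      refine map_injective K.subtype_injective ?_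
      rw [map_subtype_commutator, h.comp.perfect, ← MonoidHom.range_eq_map, range_subtype]
    rw [hperf, top_inf_eq]
  obtain ⟨x, hx, hxy⟩ := hO.exists_not_commute hy ey
  refine hxy (hYc x ?_)
  have hle : (P : Subgroup ↥K).focalSubgroup ≤ Y.subgroupOf K := by
    refine (closure_le _).mpr ?_
    rintro g ⟨hg, a, ha, u, rfl⟩
    have haQ : (a : G) ∈ Q := hPQ ▸ mem_map_of_mem K.subtype ha
    have hbP : u * a⁻¹ * u⁻¹ ∈ (P : Subgroup ↥K) := by
      have := mul_mem (inv_mem ha) hg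
      simpa [commutatorElement_def, mul_assoc] using this
    have hbQ : (u : G) * (a : G)⁻¹ * (u : G)⁻¹ ∈ Q := hPQ ▸ mem_map_of_mem K.subtype hbP
    show ((⁅a, u⁆ : ↥K) : G) ∈ Y
    have he : ((⁅a, u⁆ : ↥K) : G) = (a : G) * ((u : G) * (a : G)⁻¹ * (u : G)⁻¹) := by
      simp [commutatorElement_def, mul_assoc]
    rw [he]
    by_cases haY : (a : G) ∈ Y
    · exact mul_mem haY (hstay _ (inv_mem haY) _ u.2 hbQ)
    · have hbY : (u : G) * (a : G)⁻¹ * (u : G)⁻¹ ∉ Y := fun hb => haY (by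
        have h2 := hstay _ hb (u : G)⁻¹ (inv_mem u.2)
        rw [show (u : G)⁻¹ * ((u : G) * (a : G)⁻¹ * (u : G)⁻¹) * (u : G)⁻¹⁻¹ = (a : G)⁻¹ by group] at h2
        exact inv_inv (a : G) ▸ inv_mem (h2 (inv_mem haQ)))
      obtain ⟨e1, -⟩ := hout _ haQ haY
      obtain ⟨e2, -⟩ := hout _ hbQ hbY
      refine hcy _ (mul_mem haQ hbQ) (mul_inv_eq_iff_eq_mul.mp ?_)
      set b := (u : G) * (a : G)⁻¹ * (u : G)⁻¹
      rw [show (a : G) * b * y * ((a : G) * b)⁻¹ = (a : G) * (b * y * b⁻¹) * (a : G)⁻¹ by group, e2,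
        show (a : G) * (y * σ) * (a : G)⁻¹ = (a : G) * y * (a : G)⁻¹ * ((a : G) * σ * (a : G)⁻¹) by group,
        e1, ← hO.comm haQ, mul_inv_cancel_right, mul_assoc, h.sq, mul_one]
  have hxP : (⟨x, hQ.le hx⟩ : ↥K) ∈ (P : Subgroup ↥K) := hP (mem_subgroupOf.mpr hx)
  rw [← hfoc] at hxP
  exact mem_subgroupOf.mp (hle hxP)

end Cfsg.Lib.Sig.Intr
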