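import Cfsg.Agent.Lib.Sig.IntrinsicPair.Bar
import Cfsg.Agent.Lib.Local.SubnormalSylow

/-!
Two intrinsic components with commuting involutions: common Sylow data and the action of the 2-layer
on a component.
-/

set_option autoImplicit false
set_option linter.style.haveILetI false

namespace Cfsg.Lib.Sig.Intr

open Subgroup
open scoped commutatorElement

universe u

variable {G : Type u} [Group G] [Finite G]

/-- Two different intrinsic components with different involutions and equal quotient orders. -/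
structure Pair (J K : Subgroup G) (z σ : G) : Prop where
  hJ : Intrinsic J z
  hK : Intrinsic K σ
  card : qcard J = qcard K
  ne : z ≠ σ

omit [Finite G] in
theorem Pair.symm {J K : Subgroup G} {z σ : G} (h : Pair J K z σ) : Pair K J σ z :=
  ⟨h.hK, h.hJ, h.card.symm, h.ne.symm⟩

/-- Sylow data for two commuting elements. -/
structure Frame (z σ : G) (D S T : Subgroup G) : Prop where
  hD : Syl D (centralizer ({z} : Set G) ⊓ centralizer ({σ} : Set G))
  hS : Syl S (centralizer ({z} : Set G))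
  hT : Syl T (centralizer ({σ} : Set G))
  DS : D ≤ S
  DT : D ≤ T

theorem Frame.exists_ge {z σ : G} {P : Subgroup G} (hP : IsPGroup 2 P)
    (hle : P ≤ centralizer ({z} : Set G) ⊓ centralizer ({σ} : Set G)) :
    ∃ D S T, P ≤ D ∧ Frame z σ D S T := by
  obtain ⟨D, hPD, hD⟩ := Syl.exists_ge hP hle
  obtain ⟨S, hDS, hS⟩ := Syl.exists_ge hD.isTwo (hD.le.trans inf_le_left)
  obtain ⟨T, hDT, hT⟩ := Syl.exists_ge hD.isTwo (hD.le.trans inf_le_right)
  exact ⟨D, S, T, hPD, hD, hS, hT, hDS, hDT⟩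

omit [Finite G] in
theorem Frame.symm {z σ : G} {D S T : Subgroup G} (h : Frame z σ D S T) : Frame σ z D T S :=
  ⟨by rw [inf_comm]; exact h.hD, h.hT, h.hS, h.DT, h.DS⟩

omit [Finite G] in
theorem Frame.mem_left {z σ : G} {D S T : Subgroup G} (h : Frame z σ D S T) {x : G} (hx : x ∈ S)
    (hc : x * σ = σ * x) : x ∈ D := by
  have e := h.hD.max (S ⊓ centralizer ({σ} : Set G)) (le_inf h.DS (h.hD.le.trans inf_le_right))
    (inf_le_inf_right _ h.hS.le) (h.hS.isTwo.to_le inf_le_left)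
  exact e ▸ mem_inf.mpr ⟨hx, mem_C.mpr hc⟩

omit [Finite G] in
theorem Frame.mem_right {z σ : G} {D S T : Subgroup G} (h : Frame z σ D S T) {x : G} (hx : x ∈ T)
    (hc : x * z = z * x) : x ∈ D := h.symm.mem_left hx hc

omit [Finite G] in
/-- A central two-element lies in every Sylow subgroup. -/
theorem Syl.mem_of_central {S H : Subgroup G} (hS : Syl S H) {z : G} (hz : z ∈ H) (h2 : TwoEl z)
    (hc : ∀ x ∈ H, x * z = z * x) : z ∈ S := by
  have e := hS.max (Subgroup.zpowers z ⊔ S) le_sup_right (sup_le (zpowers_le.mpr hz) hS.le)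
    (isTwo_sup hS.isTwo h2 fun p hp => (hc p (hS.le hp)).symm)
  exact e ▸ mem_sup_left (Subgroup.mem_zpowers z)

omit [Finite G] in
theorem Syl.mem_self {S : Subgroup G} {z : G} (hS : Syl S (centralizer ({z} : Set G))) (h : z * z = 1) :
    z ∈ S :=
  hS.mem_of_central (mem_C.mpr rfl) (twoEl_of_invol h) fun _ hx => mem_C.mp hx

/-- The 2-layer normalizes each component. -/
theorem CompAt.pLayer_le_normalizer {σ : G} {K : Subgroup G} (hK : CompAt σ K) :
    Cfsg.pLayerOf 2 (centralizer ({σ} : Set G)) ≤ normalizer (K : Set G) := by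
  haveI : Fact (Nat.Prime 2) := ⟨Nat.prime_two⟩
  rintro _ ⟨u, hu, rfl⟩
  have h1 : u ∈ normalizer ((K.subgroupOf (centralizer ({σ} : Set G))) : Set ↥(centralizer ({σ} : Set G))) :=
    (sSup_le fun M hM => pComponent_normalizes hK.2 hM : Cfsg.pLayer 2 _ ≤ _) hu
  refine mem_normalizer_fintype fun x hx => ?_
  exact mem_subgroupOf.mp ((mem_normalizer_iff.mp h1 ⟨x, hK.1 hx⟩).mp (mem_subgroupOf.mpr hx))

/-- A two-element of the 2-layer induces an inner automorphism on each component, modulo the core. -/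
theorem CompAt.exists_inner {σ : G} {K : Subgroup G} (hK : CompAt σ K) {T : Subgroup G}
    (hT : Syl T (centralizer ({σ} : Set G))) {d : G} (hdT : d ∈ T)
    (hd : d ∈ Cfsg.pLayerOf 2 (centralizer ({σ} : Set G))) :
    ∃ q ∈ T, q ∈ K ∧ ∀ k ∈ K, ⁅q⁻¹ * d, k⁆ ∈ core σ := by
  haveI : Fact (Nat.Prime 2) := ⟨Nat.prime_two⟩
  set U := centralizer ({σ} : Set G) with hU
  obtain ⟨u, hu, rfl⟩ := hd
  set K0 := K.subgroupOf U with hK0
  set π := QuotientGroup.mk' (Cfsg.pPrimeCore 2 ↥U)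
  set M := Cfsg.pLayer 2 ↥U with hM
  set A := M ⊓ (centralizer ((K0.map π : Subgroup _) : Set _)).comap π with hA
  have hMN : M ≤ normalizer (K0 : Set ↥U) := sSup_le fun L hL => pComponent_normalizes hK.2 hL
  have hAn : A.IsSubnormal := by
    refine IsSubnormal.trans (inf_le_left : A ≤ M) ?_ (inferInstance : M.Normal).isSubnormal
    refine ((normal_subgroupOf_iff_le_normalizer inf_le_left).mpr fun m hm => ?_).isSubnormal
    refine mem_normalizer_fintype fun a ha => ⟨M.mul_mem (M.mul_mem hm ha.1) (M.inv_mem hm), ?_⟩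
    rintro _ ⟨k, hk, rfl⟩
    have hk' : m⁻¹ * k * m ∈ K0 := by
      simpa using (mem_normalizer_iff.mp (hMN (inv_mem hm)) k).mp hk
    have h1 := ha.2 _ (mem_map_of_mem π hk')
    rw [← map_mul, ← map_mul] at h1 ⊢
    have h2 : π (m * (m⁻¹ * k * m * a) * m⁻¹) = π (m * (a * (m⁻¹ * k * m)) * m⁻¹) := by
      rw [map_mul π, map_mul π m, h1, ← map_mul, ← map_mul]
    simpa [mul_assoc] using h2
  have hgen : M ≤ K0 ⊔ A := by
    refine sSup_le fun L hL => ?_
    by_cases e : L = K0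
    · exact e ▸ le_sup_left
    · refine le_sup_of_le_right fun x hx => ⟨(le_sSup hL : L ≤ M) hx, ?_⟩
      rintro _ ⟨k, hk, rfl⟩
      exact Cfsg.Lib.Core.commutator_eq_bot_iff_forall.mp
        (Cfsg.Lib.Core.component_commute hK.2.2.1 hL.2.1 fun e' => e (pComponent_eq_of_map_eq hL hK.2 e'.symm))
        _ (mem_map_of_mem π hk) _ (mem_map_of_mem π hx)
  have hp : IsPGroup 2 ↥(T.subgroupOf U) := hT.isTwo.comap_subtype
  obtain ⟨P, hP⟩ := hp.exists_le_sylow
  have hPT : (P : Subgroup ↥U) ≤ T.subgroupOf U := by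
    have e := hT.max ((P : Subgroup ↥U).map U.subtype) (fun t ht => ⟨⟨t, hT.le ht⟩, hP ht, rfl⟩)
      (map_subtype_le _) (P.2.map _)
    intro x hx
    exact mem_subgroupOf.mpr (e ▸ mem_map_of_mem U.subtype hx)
  have hmem : u ∈ (K0 ⊓ (P : Subgroup ↥U)) ⊔ (A ⊓ (P : Subgroup ↥U)) := by
    rw [← Cfsg.Lib.Local.inf_sylow_sup_of_isSubnormal P hK.2.1 hAn]
    exact mem_inf.mpr ⟨hgen hu, hP (mem_subgroupOf.mpr hdT)⟩
  have hnorm : A ⊓ (P : Subgroup ↥U) ≤ normalizer ((K0 ⊓ (P : Subgroup ↥U) : Subgroup ↥U) : Set ↥U) := by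
    intro a ha
    refine mem_normalizer_fintype fun k hk => ⟨(mem_normalizer_iff.mp (hMN ha.1.1) k).mp hk.1,
      P.toSubgroup.mul_mem (P.toSubgroup.mul_mem ha.2 hk.2) (P.toSubgroup.inv_mem ha.2)⟩
  rw [← SetLike.mem_coe, coe_mul_of_right_le_normalizer_left _ _ hnorm] at hmem
  obtain ⟨q, hq, a, ha, hqa⟩ := hmem
  refine ⟨q, mem_subgroupOf.mp (hPT hq.2), mem_subgroupOf.mp hq.1, fun k hk => ?_⟩
  refine ⟨⁅q⁻¹ * u, ⟨k, hK.1 hk⟩⁆, ?_, rfl⟩
  show _ ∈ Cfsg.pPrimeCore 2 ↥U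
  rw [← QuotientGroup.eq_one_iff]
  show π ⁅q⁻¹ * u, ⟨k, hK.1 hk⟩⁆ = 1
  rw [map_commutatorElement, commutatorElement_eq_one_iff_mul_comm, ← hqa, inv_mul_cancel_left]
  exact (ha.1.2 _ (mem_map_of_mem π (mem_subgroupOf.mpr hk : (⟨k, hK.1 hk⟩ : ↥U) ∈ K0))).symm

omit [Finite G] in
/-- The inverted element inverts back. -/
theorem swap_inverter {a x z : G} (hz : z * z = 1) (hxz : x * z = z * x) (haz : a * z = z * a)
    (h : x * a * x⁻¹ = a * z) : a * x * a⁻¹ = x * z := by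
  have h1 : x * a = a * z * x := mul_inv_eq_iff_eq_mul.mp h
  have h2 : a * x = x * a * z := by
    rw [h1, mul_assoc (a * z), hxz, ← mul_assoc, mul_assoc a z z, hz, mul_one]
  rw [h2, mul_assoc x a z, haz, ← mul_assoc, mul_inv_cancel_right]

end Cfsg.Lib.Sig.Intr
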