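import Cfsg.Agent.Lib.Sig.IntrinsicPair.FourConj

/-!
An element `y` of `K` centralizing `z` and moving `J`, its square fixing `J`.
-/

set_option autoImplicit false
set_option linter.style.haveILetI false

namespace Cfsg.Lib.Sig.Intr

open Subgroup
open scoped commutatorElement

universe u

variable {G : Type u} [Group G] [Finite G]

/-- The standing situation. -/
structure Moves (J K : Subgroup G) (z σ : G) (D S T : Subgroup G) (y : G) : Prop where
  pair : Pair J K z σ
  frame : Frame z σ D S T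
  zN : z ∈ normalizer (K : Set G)
  σN : σ ∈ normalizer (J : Set G)
  yT : y ∈ T
  yK : y ∈ K
  yz : y * z = z * y
  ymove : y ∉ normalizer (J : Set G)
  y2N : y * y ∈ normalizer (J : Set G)

variable {J K D S T : Subgroup G} {z σ y : G}

omit [Finite G] in
theorem conj_pow_cases {z : G} (hz : z * z = 1) {g σ b : G} (hσ : σ ∈ Subgroup.zpowers g)
    (hgz : g * z = z * g) (hb : g * b * g⁻¹ = b ∨ g * b * g⁻¹ = b * z) :
    σ * b * σ⁻¹ = b ∨ σ * b * σ⁻¹ = b * z := by
  rcases hb with e | e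
  · left
    obtain ⟨n, rfl⟩ := Subgroup.mem_zpowers_iff.mp hσ
    rw [((show Commute g b from mul_inv_eq_iff_eq_mul.mp e).zpow_left n).eq, mul_inv_cancel_right]
  · -- the elements acting in this way form a subgroup
    let W : Subgroup G :=
      { carrier := {x | x * z = z * x ∧ (x * b * x⁻¹ = b ∨ x * b * x⁻¹ = b * z)}
        one_mem' := ⟨by rw [one_mul, mul_one], Or.inl (by group)⟩
        mul_mem' := by
          rintro u v ⟨hu, hu'⟩ ⟨hv, hv'⟩
          refine ⟨((show Commute u z from hu).mul_left (show Commute v z from hv)).eq, ?_⟩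
          have huz : u * z * u⁻¹ = z := by rw [hu, mul_inv_cancel_right]
          rw [show u * v * b * (u * v)⁻¹ = u * (v * b * v⁻¹) * u⁻¹ by group]
          rcases hv' with ev | ev <;> rw [ev]
          · exact hu'
          · rw [show u * (b * z) * u⁻¹ = (u * b * u⁻¹) * (u * z * u⁻¹) by group, huz]
            rcases hu' with eu | eu <;> rw [eu]
            · exact Or.inr rfl
            · left; rw [mul_assoc, hz, mul_one]
        inv_mem' := by
          rintro u ⟨hu, hu'⟩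
          refine ⟨((show Commute u z from hu).inv_left).eq, ?_⟩
          have huz : u⁻¹ * z * u = z := by rw [mul_assoc, ← hu, inv_mul_cancel_left]
          rw [inv_inv]
          rcases hu' with eu | eu
          · left; conv_lhs => rw [← eu]
            group
          · right
            have : u⁻¹ * (b * z) * u = b := by rw [← eu]; group
            rw [show u⁻¹ * (b * z) * u = (u⁻¹ * b * u) * (u⁻¹ * z * u) by group, huz] at this
            calc u⁻¹ * b * u = u⁻¹ * b * u * z * z := by rw [mul_assoc _ z z, hz, mul_one]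
              _ = b * z := by rw [this] }
    exact ((zpowers_le.mpr (show g ∈ W from ⟨hgz, Or.inr e⟩)) hσ).2

namespace Moves

omit [Finite G] in
theorem zσ (h : Moves J K z σ D S T y) : z * σ = σ * z := h.pair.hK.normalizer_comm h.zN

omit [Finite G] in
theorem yD (h : Moves J K z σ D S T y) : y ∈ D := h.frame.mem_right h.yT h.yz
theorem yS (h : Moves J K z σ D S T y) : y ∈ S := h.frame.DS h.yD
theorem zD (h : Moves J K z σ D S T y) : z ∈ D :=
  h.frame.mem_left (h.frame.hS.mem_self h.pair.hJ.sq) h.zσ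
theorem σD (h : Moves J K z σ D S T y) : σ ∈ D :=
  h.frame.mem_right (h.frame.hT.mem_self h.pair.hK.sq) h.zσ.symm

omit [Finite G] in
theorem z_not_mem (h : Moves J K z σ D S T y) : z ∉ K := fun hz => by
  rcases h.pair.hK.uniq z hz h.pair.hJ.sq with e | e
  · exact h.pair.hJ.ne e
  · exact h.pair.ne e

theorem hQ (h : Moves J K z σ D S T y) : OneInvol (S ⊓ J) z :=
  h.pair.hJ.oneInvol (h.frame.hS.inf_comp h.pair.hJ.comp)

theorem hQK (h : Moves J K z σ D S T y) : OneInvol (T ⊓ K) σ :=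
  h.pair.hK.oneInvol (h.frame.hT.inf_comp h.pair.hK.comp)

/-- The image of `J` under `y`. -/
theorem comp' (h : Moves J K z σ D S T y) : CompAt z (J.map (MulAut.conj y).toMonoidHom) :=
  h.pair.hJ.comp.conj_of_comm h.yz

omit [Finite G] in
theorem ne' (h : Moves J K z σ D S T y) : J ≠ J.map (MulAut.conj y).toMonoidHom := fun e =>
  h.ymove (mem_normalizer_of_map_conj e.symm)

omit [Finite G] in
theorem σy (h : Moves J K z σ D S T y) : Commute σ y := (h.pair.hK.comm h.yK).symm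

/-- Elements of `Q` commute with their conjugates by `y`. -/
theorem cross (h : Moves J K z σ D S T y) {a b : G} (ha : a ∈ S ⊓ J) (hb : b ∈ S ⊓ J) :
    Commute a (y * b * y⁻¹) :=
  h.pair.hJ.comp.commute_exact h.comp' h.ne' h.frame.hS.isTwo ha.1 ha.2
    (mul_mem (mul_mem h.yS hb.1) (inv_mem h.yS)) ⟨b, hb.2, rfl⟩

/-- The commutator of `b` and `y` lies in `D`. -/
theorem comm_mem (h : Moves J K z σ D S T y) {b : G} (hb : b ∈ S ⊓ J)
    (hσ : σ * b * σ⁻¹ = b ∨ σ * b * σ⁻¹ = b * z) : b * (y * b * y⁻¹)⁻¹ ∈ D := by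
  refine h.frame.mem_left (mul_mem hb.1 (inv_mem (mul_mem (mul_mem h.yS hb.1) (inv_mem h.yS)))) ?_
  refine (mul_inv_eq_iff_eq_mul.mp ?_).symm
  have e1 : σ * (b * (y * b * y⁻¹)⁻¹) * σ⁻¹ = (σ * b * σ⁻¹) * (y * (σ * b * σ⁻¹) * y⁻¹)⁻¹ := by
    have e2 : σ * y = y * σ := h.σy.eq
    calc σ * (b * (y * b * y⁻¹)⁻¹) * σ⁻¹ = (σ * b * σ⁻¹) * ((σ * y) * b * (σ * y)⁻¹)⁻¹ := by group
      _ = _ := by rw [e2]; group
  rw [e1]
  rcases hσ with e | e <;> rw [e]
  rw [show y * (b * z) * y⁻¹ = (y * b * y⁻¹) * (y * z * y⁻¹) by group,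
    show y * z * y⁻¹ = z by rw [h.yz, mul_inv_cancel_right],
    mul_inv_rev, ← mul_assoc, mul_assoc b z, mul_inv_cancel, mul_one]

/-- For `b` negated by `y²` the commutator with `y` is `z`. -/
theorem comm_eq (h : Moves J K z σ D S T y) {b : G} (hb : b ∈ S ⊓ J) (eb : b * b = z)
    (hg : y * y * b * (y * y)⁻¹ = b * z) :
    ⁅b * (y * b * y⁻¹)⁻¹, y⁆ = z := by
  set b' := y * b * y⁻¹ with hb'
  have cbb : Commute b b' := h.cross hb hb
  have e1 : y * b' * y⁻¹ = b * z := by rw [hb', ← hg]; group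
  have e2 : y * (b * b'⁻¹) * y⁻¹ = b' * (b * z)⁻¹ := by rw [← e1, hb']; group
  have eb' : b' * b' = z := conj_sq eb h.yz
  rw [commutatorElement_def, show b * b'⁻¹ * y * (b * b'⁻¹)⁻¹ * y⁻¹ =
    b * b'⁻¹ * (y * (b * b'⁻¹) * y⁻¹)⁻¹ by group, e2,
    show b * b'⁻¹ * (b' * (b * z)⁻¹)⁻¹ = b * (b'⁻¹ * b) * z * b'⁻¹ by group, ← cbb.inv_right.eq,
    ← mul_assoc, mul_assoc (b * b), (show Commute b'⁻¹ z from (mem_C.mp (h.comp'.1 ⟨b, hb.2, rfl⟩) : b' * z = z * b') |> fun e => (show Commute b' z from e).inv_left).eq,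
    ← mul_assoc, eb, h.pair.hJ.sq, one_mul, ← mul_inv_rev, eb', h.hQ.inv_z]

/-- So that commutator moves `K`. -/
theorem comm_move (h : Moves J K z σ D S T y) {b : G} (hb : b ∈ S ⊓ J) (eb : b * b = z)
    (hg : y * y * b * (y * y)⁻¹ = b * z) :
    b * (y * b * y⁻¹)⁻¹ ∉ normalizer (K : Set G) := fun hv => h.z_not_mem (by
  rw [← h.comm_eq hb eb hg, commutatorElement_def]
  exact mul_mem ((mem_normalizer_iff.mp hv y).mp h.yK) (inv_mem h.yK))

/-- If `y²` has order at least four, no element of order four of `Q` is negated by it. -/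
theorem false_of_negated (h : Moves J K z σ D S T y) {r : G} (hr : r ∈ Subgroup.zpowers (y * y))
    (er : r * r = σ) {b : G} (hb : b ∈ S ⊓ J) (eb : b * b = z)
    (hg : y * y * b * (y * y)⁻¹ = b * z) : False := by
  set g := y * y with hgdef
  have hgz : g * z = z * g := ((show Commute y z from h.yz).mul_left (show Commute y z from h.yz)).eq
  have hσg : σ ∈ Subgroup.zpowers g := er ▸ mul_mem hr hr
  have hσb := conj_pow_cases h.pair.hJ.sq hσg hgz (Or.inr hg)
  have hvD := h.comm_mem hb hσb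
  set v := b * (y * b * y⁻¹)⁻¹ with hv
  have hgv : Commute g v := by
    refine mul_inv_eq_iff_eq_mul.mp ?_
    have hgy : g * y = y * g := by rw [hgdef, mul_assoc]
    have hyz : y * z * y⁻¹ = z := by rw [h.yz, mul_inv_cancel_right]
    calc g * v * g⁻¹ = (g * b * g⁻¹) * ((g * y) * b * (g * y)⁻¹)⁻¹ := by rw [hv]; group
      _ = (g * b * g⁻¹) * (y * (g * b * g⁻¹) * y⁻¹)⁻¹ := by rw [hgy]; group
      _ = b * z * ((y * b * y⁻¹) * (y * z * y⁻¹))⁻¹ := by rw [hg]; group
      _ = v := by rw [hyz, mul_inv_rev, ← mul_assoc, mul_assoc b z, mul_inv_cancel, mul_one]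
  obtain ⟨n, rfl⟩ := Subgroup.mem_zpowers_iff.mp hr
  exact h.comm_move hb eb hg (h.pair.hK.mem_normalizer_of_fixed
    (mem_C.mp (mem_inf.mp (h.frame.hD.le hvD)).2) (zpow_mem (mul_mem h.yK h.yK) n) er
    (hgv.symm.zpow_right n).eq)

/-- `y²` cannot have order at least four. -/
theorem false_of_big (h : Moves J K z σ D S T y) (h4 : 4 ≤ orderOf (y * y)) : False := by
  haveI : Fact (Nat.Prime 2) := ⟨Nat.prime_two⟩
  have hQ := h.hQ
  set g := y * y with hgdef
  obtain ⟨r, hr, -, er⟩ := h.hQK.exists_four (mul_mem (mem_inf.mpr ⟨h.yT, h.yK⟩) (mem_inf.mpr ⟨h.yT, h.yK⟩)) h4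
  have hgz : g * z = z * g := ((show Commute y z from h.yz).mul_left (show Commute y z from h.yz)).eq
  have hσg : σ ∈ Subgroup.zpowers g := er ▸ mul_mem hr hr
  have hgS : g ∈ S := mul_mem h.yS h.yS
  have hgQ : g ∈ normalizer ((S ⊓ J : Subgroup G) : Set G) := mem_normalizer_fintype fun q hq =>
    mem_inf.mpr ⟨mul_mem (mul_mem hgS hq.1) (inv_mem hgS), (mem_normalizer_iff.mp h.y2N q).mp hq.2⟩
  obtain ⟨a, ha, ea, hga | hga⟩ := hQ.dichotomy (twoEl_of_mem h.frame.hS.isTwo hgS) hgQ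
  swap
  · exact h.false_of_negated hr er ha ea hga
  have hga' : Commute g a := mul_inv_eq_iff_eq_mul.mp hga
  have hσa : Commute σ a := by
    obtain ⟨n, hn⟩ := Subgroup.mem_zpowers_iff.mp hσg
    exact hn ▸ hga'.zpow_left n
  have haK : a ∈ normalizer (K : Set G) := by
    obtain ⟨n, hn⟩ := Subgroup.mem_zpowers_iff.mp hr
    exact h.pair.hK.mem_normalizer_of_fixed hσa.eq.symm (hn ▸ zpow_mem (mul_mem h.yK h.yK) n) er
      (hn ▸ (hga'.symm.zpow_right n).eq)
  obtain ⟨x, hx, hxa, ex⟩ := hQ.exists_inverter ha ea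
  have hyz : y * z * y⁻¹ = z := by rw [h.yz, mul_inv_cancel_right]
  -- `σ` is the commutator of `a` and `y`
  set a' := y * a * y⁻¹ with ha'
  have ea' : a' * a' = z := conj_sq ea h.yz
  have caa : Commute a a' := h.cross ha ha
  have hu2 : (a * a'⁻¹) * (a * a'⁻¹) = 1 := by
    rw [show a * a'⁻¹ * (a * a'⁻¹) = a * (a'⁻¹ * a) * a'⁻¹ by group, ← caa.inv_right.eq,
      show a * (a * a'⁻¹) * a'⁻¹ = (a * a) * (a' * a')⁻¹ by group, ea, ea', mul_inv_cancel]
  have hu : a * a'⁻¹ = σ := by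
    refine (h.pair.hK.uniq _ ?_ hu2).resolve_left fun e => ?_
    · rw [show a * a'⁻¹ = (a * y * a⁻¹) * y⁻¹ by rw [ha']; group]
      exact mul_mem ((mem_normalizer_iff.mp haK y).mp h.yK) (inv_mem h.yK)
    · exact h.pair.hJ.not_mem_other h.comp' h.ne' ha.2 ((mul_inv_eq_one.mp e) ▸ ⟨a, ha.2, rfl⟩) ea
  have hσx : σ * x * σ⁻¹ = x * z := by
    rw [← hu, show a * a'⁻¹ * x * (a * a'⁻¹)⁻¹ = a * (a'⁻¹ * x * a') * a⁻¹ by group,
      show a'⁻¹ * x * a' = x by rw [← (h.cross hx ha).inv_right.eq, inv_mul_cancel_right]]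
    exact swap_inverter h.pair.hJ.sq (h.pair.hJ.comm hx.2) (h.pair.hJ.comm ha.2) hxa
  have hgxQ : g * x * g⁻¹ ∈ S ⊓ J := (mem_normalizer_iff.mp hgQ x).mp hx
  set t := x⁻¹ * (g * x * g⁻¹) with ht
  have htQ : t ∈ S ⊓ J := mul_mem (inv_mem hx) hgxQ
  have hvD := h.comm_mem hx (Or.inr hσx)
  set x' := y * x * y⁻¹ with hx'
  have ex' : x' * x' = z := conj_sq ex h.yz
  set v := x * x'⁻¹ with hv
  have he : ⁅v, y⁆ = t := by
    have e1 : y * x' * y⁻¹ = x * t := by rw [ht, hx', hgdef]; group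
    have e2 : y * v * y⁻¹ = x' * (x * t)⁻¹ := by rw [← e1, hv, hx']; group
    have c1 : Commute x'⁻¹ (x * t) := (h.cross (mul_mem hx htQ) hx).symm.inv_left
    rw [commutatorElement_def, show v * y * v⁻¹ * y⁻¹ = v * (y * v * y⁻¹)⁻¹ by group, e2, hv,
      show x * x'⁻¹ * (x' * (x * t)⁻¹)⁻¹ = x * (x'⁻¹ * (x * t)) * x'⁻¹ by group, c1.eq,
      show x * (x * t * x'⁻¹) * x'⁻¹ = (x * x) * t * (x' * x')⁻¹ by group, ex, ex', hQ.inv_z,
      hQ.comm htQ, mul_assoc, h.pair.hJ.sq, mul_one]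
  -- in all cases `t` is trivial or `z`
  have hcase : t = 1 ∨ t = z := by
    by_cases hvK : v ∈ normalizer (K : Set G)
    · have htK : t ∈ K := he ▸ mul_mem ((mem_normalizer_iff.mp hvK y).mp h.yK) (inv_mem h.yK)
      rcases hQ.order_cases htQ with e | e | e
      · exact Or.inl e
      · exact Or.inr e
      · obtain ⟨b, hbt, -, eb⟩ := hQ.exists_four htQ e
        exact absurd (eb ▸ mul_mem (zpowers_le.mpr htK hbt) (zpowers_le.mpr htK hbt)) h.z_not_mem
    · have hcv : y * (v * y * v⁻¹) = v * y * v⁻¹ * y :=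
        h.pair.hK.comp.commute_exact (h.pair.hK.comp.conj_of_comm (mem_C.mp (mem_inf.mp (h.frame.hD.le hvD)).2))
          (fun e => hvK (mem_normalizer_of_map_conj e.symm)) h.frame.hT.isTwo h.yT h.yK
          (mul_mem (mul_mem (h.frame.DT hvD) h.yT) (inv_mem (h.frame.DT hvD))) ⟨y, h.yK, rfl⟩
      have hyt : y * t * y⁻¹ = t := by
        rw [← he, commutatorElement_def, show y * (v * y * v⁻¹ * y⁻¹) * y⁻¹ = y * (v * y * v⁻¹) * y⁻¹ * y⁻¹ by group,
          hcv, mul_inv_cancel_right]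
      rcases hQ.order_cases htQ with e | e | e
      · exact Or.inl e
      · exact Or.inr e
      · exfalso
        obtain ⟨b, hbt, hb, eb⟩ := hQ.exists_four htQ e
        refine h.pair.hJ.not_mem_other h.comp' h.ne' hb.2 ⟨b, hb.2, ?_⟩ eb
        obtain ⟨n, rfl⟩ := Subgroup.mem_zpowers_iff.mp hbt
        show y * t ^ n * y⁻¹ = t ^ n
        rw [← conj_zpow, hyt]
  have e3 : g * x * g⁻¹ = x * t := by rw [ht]; group
  rcases hcase with e | e <;> rw [e] at e3
  · rw [mul_one] at e3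
    have hσx' : Commute σ x := by
      obtain ⟨n, hn⟩ := Subgroup.mem_zpowers_iff.mp hσg
      exact hn ▸ (show Commute g x from mul_inv_eq_iff_eq_mul.mp e3).zpow_left n
    rw [hσx'.eq, mul_inv_cancel_right] at hσx
    exact h.pair.hJ.ne (mul_left_cancel (a := x) ((mul_one x).trans hσx)).symm
  · exact h.false_of_negated hr er hx ex e3

end Moves

end Cfsg.Lib.Sig.Intr
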