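import Cfsg.Agent.Lib.Sig.IntrinsicPair.Frame

/-!
If `z` normalizes `K` then `σ` normalizes `J`.
-/

set_option autoImplicit false
set_option linter.style.haveILetI false

namespace Cfsg.Lib.Sig.Intr

open Subgroup
open scoped commutatorElement

universe u

variable {G : Type u} [Group G] [Finite G] {J K : Subgroup G} {z σ : G}

/-- The element `i * ˢi`. -/
theorem Pair.diag_facts (h : Pair J K z σ) (hc : z * σ = σ * z) (hσ : σ ∉ normalizer (J : Set G))
    {D S T : Subgroup G} (F : Frame z σ D S T) (hσS : σ ∈ S) {i : G} (hiS : i ∈ S) (hi : i ∈ J) :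
    i * (σ * i * σ⁻¹) ∈ D ∧ i * (σ * i * σ⁻¹) ∈ Cfsg.pLayerOf 2 (centralizer ({σ} : Set G)) := by
  have hd := diag_mem h.hJ.comp (twoEl_of_invol h.hJ.sq) h.hK.sq hc.symm hσ F.hS.isTwo hσS hiS hi
  refine ⟨F.mem_left (mul_mem hiS (mul_mem (mul_mem hσS hiS) (inv_mem hσS))) ?_, hd⟩
  exact mem_C.mp (map_subtype_le _ hd)

omit [Finite G] in
theorem conj_sq {g a z : G} (e : a * a = z) (hg : g * z = z * g) :
    g * a * g⁻¹ * (g * a * g⁻¹) = z := by
  rw [show g * a * g⁻¹ * (g * a * g⁻¹) = g * (a * a) * g⁻¹ by group, e, hg, mul_inv_cancel_right]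

/-- Case of an element of order four of `K` fixed by `z`. -/
theorem Pair.not_fixed_four (h : Pair J K z σ) (hzK : z ∈ normalizer (K : Set G))
    (hσ : σ ∉ normalizer (J : Set G)) {r : G} (hr : r ∈ K) (er : r * r = σ) (hzr : z * r = r * z) :
    False := by
  haveI : Fact (Nat.Prime 2) := ⟨Nat.prime_two⟩
  have hc : z * σ = σ * z := h.hK.normalizer_comm hzK
  have hr2 : TwoEl r := ⟨2, by
    refine orderOf_eq_prime_pow (p := 2) (n := 1) ?_ ?_
    · rw [pow_one, pow_two, er]; exact h.hK.ne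
    · rw [show (2 : ℕ) ^ (1 + 1) = 2 * 2 from rfl, pow_mul, pow_two, pow_two, er, h.hK.sq]⟩
  have hP : IsPGroup 2 ↥(Subgroup.zpowers z ⊔ Subgroup.zpowers r) :=
    isTwo_sup hr2.zpowers (twoEl_of_invol h.hJ.sq) fun p hp => by
      obtain ⟨n, rfl⟩ := Subgroup.mem_zpowers_iff.mp hp
      exact ((show Commute z r from hzr).zpow_right n).eq
  obtain ⟨D, S, T, hPD, F⟩ := Frame.exists_ge (z := z) (σ := σ) hP (sup_le
    (zpowers_le.mpr (mem_inf.mpr ⟨mem_C.mpr rfl, mem_C.mpr hc⟩))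
    (zpowers_le.mpr (mem_inf.mpr ⟨mem_C.mpr hzr.symm, mem_C.mpr (by rw [← er, mul_assoc])⟩)))
  have hrS : r ∈ S := F.DS (hPD (mem_sup_right (Subgroup.mem_zpowers r)))
  have hσS : σ ∈ S := er ▸ mul_mem hrS hrS
  have hQ := h.hJ.oneInvol (F.hS.inf_comp h.hJ.comp)
  obtain ⟨i, hiQ, ei⟩ := hQ.exists_sq
  obtain ⟨x, hxQ, hxi, ex⟩ := hQ.exists_inverter hiQ ei
  obtain ⟨hiS, hi⟩ := mem_inf.mp hiQ
  obtain ⟨hxS, hx⟩ := mem_inf.mp hxQ
  -- four components
  set cσ := (MulAut.conj σ).toMonoidHom with hcσ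
  set cr := (MulAut.conj r).toMonoidHom with hcr
  have hB : CompAt z (J.map cσ) := h.hJ.comp.conj_of_comm hc.symm
  have hC : CompAt z (J.map cr) := h.hJ.comp.conj_of_comm hzr.symm
  have hE : CompAt z ((J.map cσ).map cr) := hB.conj_of_comm hzr.symm
  have hrr : ∀ A : Subgroup G, (A.map cr).map cr = A.map cσ := by
    intro A
    rw [map_map]
    congr 1
    ext g; simp [hcr, hcσ, ← er, mul_assoc]
  have nAB : J ≠ J.map cσ := fun e => hσ (mem_normalizer_of_map_conj e.symm)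
  have nAC : J ≠ J.map cr := fun e => nAB (by rw [← hrr J, ← e, ← e])
  have nAE : J ≠ (J.map cσ).map cr := fun e => nAC (by
    conv_rhs => rw [e]
    rw [hrr, map_map]
    convert (map_id J).symm
    ext g
    simp [hcσ, ← mul_assoc, h.hK.sq]
    rw [inv_eq_of_mul_eq_one_right h.hK.sq, mul_assoc, h.hK.sq, mul_one])
  set a := i
  set b := σ * i * σ⁻¹
  set c := r * a * r⁻¹
  set e := r * b * r⁻¹
  have hbS : b ∈ S := mul_mem (mul_mem hσS hiS) (inv_mem hσS)
  have hcS : c ∈ S := mul_mem (mul_mem hrS hiS) (inv_mem hrS)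
  have heS : e ∈ S := mul_mem (mul_mem hrS hbS) (inv_mem hrS)
  have hbB : b ∈ J.map cσ := ⟨i, hi, rfl⟩
  have hcC : c ∈ J.map cr := ⟨i, hi, rfl⟩
  have heE : e ∈ (J.map cσ).map cr := ⟨b, hbB, rfl⟩
  have nBC : J.map cσ ≠ J.map cr := fun e' => nAC (map_injective (MulAut.conj r).injective
    (show J.map cr = (J.map cr).map cr by rw [hrr]; exact e'.symm))
  have nBE : J.map cσ ≠ (J.map cσ).map cr := fun e' => nAC (by
    refine map_injective (f := cσ) (MulAut.conj σ).injective ?_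
    show J.map cσ = (J.map cr).map cσ
    conv_lhs => rw [e']
    rw [map_map, map_map]
    congr 1
    ext g
    simp only [hcr, hcσ, MonoidHom.coe_comp, Function.comp_apply, MulEquiv.coe_toMonoidHom, MulAut.conj_apply, ← er]
    group)
  have cab : Commute a b := h.hJ.comp.commute_exact hB nAB F.hS.isTwo hiS hi hbS hbB
  have cac : Commute a c := h.hJ.comp.commute_exact hC nAC F.hS.isTwo hiS hi hcS hcC
  have cae : Commute a e := h.hJ.comp.commute_exact hE nAE F.hS.isTwo hiS hi heS heE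
  have cbc : Commute b c := hB.commute_exact hC nBC F.hS.isTwo hbS hbB hcS hcC
  have cbe : Commute b e := hB.commute_exact hE nBE F.hS.isTwo hbS hbB heS heE
  have cxb : Commute x b := h.hJ.comp.commute_exact hB nAB F.hS.isTwo hxS hx hbS hbB
  have cxc : Commute x c := h.hJ.comp.commute_exact hC nAC F.hS.isTwo hxS hx hcS hcC
  have cxe : Commute x e := h.hJ.comp.commute_exact hE nAE F.hS.isTwo hxS hx heS heE
  obtain ⟨hdD, hdL⟩ := h.diag_facts hc hσ F hσS hiS hi
  set d := a * b with hd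
  set d' := r * d * r⁻¹ with hd'
  set t := d * d'⁻¹ with ht
  have hd2 : d * d = 1 := by
    have eb : b * b = z := conj_sq ei hc.symm
    rw [hd, show a * b * (a * b) = a * (b * a) * b by group, ← cab.eq,
      show a * (a * b) * b = (a * a) * (b * b) by group, ei, eb, h.hJ.sq]
  have hd'2 : d' * d' = 1 := by
    rw [hd', show r * d * r⁻¹ * (r * d * r⁻¹) = r * (d * d) * r⁻¹ by group, hd2, mul_one, mul_inv_cancel]
  have he' : d' = c * e := by simp only [hd', hd, c, e]; group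
  have hdd : Commute d d' := by
    rw [he']; exact (cac.mul_right cae).mul_left (cbc.mul_right cbe)
  have ht2 : t * t = 1 := by
    rw [ht, inv_eq_of_mul_eq_one_right hd'2,
      show d * d' * (d * d') = d * (d' * d) * d' by group, ← hdd.eq,
      show d * (d * d') * d' = (d * d) * (d' * d') by group, hd2, hd'2, mul_one]
  have htK : t ∈ K := by
    have h1 : d ∈ normalizer (K : Set G) := h.hK.comp.pLayer_le_normalizer hdL
    rw [ht, hd', show d * (r * d * r⁻¹)⁻¹ = (d * r * d⁻¹) * r⁻¹ by group]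
    exact mul_mem ((mem_normalizer_iff.mp h1 r).mp hr) (inv_mem hr)
  have hxz : x * z = z * x := h.hJ.comm hx
  have htx : t * x * t⁻¹ = x * z := by
    have h1 : d'⁻¹ * x * d'⁻¹⁻¹ = x := by
      have : Commute x d'⁻¹ := by rw [he']; exact (cxc.mul_right cxe).inv_right
      rw [← this.eq, mul_inv_cancel_right]
    rw [ht, show d * d'⁻¹ * x * (d * d'⁻¹)⁻¹ = d * (d'⁻¹ * x * d'⁻¹⁻¹) * d⁻¹ by group, h1, hd,
      show a * b * x * (a * b)⁻¹ = a * (b * x * b⁻¹) * a⁻¹ by group, ← cxb.eq, mul_inv_cancel_right]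
    exact swap_inverter h.hJ.sq hxz (h.hJ.comm hi) hxi
  rcases h.hK.uniq t htK ht2 with e' | e'
  · rw [e', one_mul, inv_one, mul_one] at htx
    exact h.hJ.ne (mul_left_cancel (a := x) ((mul_one x).trans htx)).symm
  · rw [e'] at htx
    refine h.hJ.not_mem_other hB nAB (x := x * z) (mul_mem hx h.hJ.mem) ⟨x, hx, htx⟩ ?_
    rw [show x * z * (x * z) = x * (z * x) * z by group, ← hxz,
      show x * (x * z) * z = (x * x) * (z * z) by group, ex, h.hJ.sq, mul_one]

/-- If `z` normalizes `K`, then `σ` normalizes `J`. -/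
theorem Pair.norm_two (h : Pair J K z σ) (hzK : z ∈ normalizer (K : Set G)) :
    σ ∈ normalizer (J : Set G) := by
  haveI : Fact (Nat.Prime 2) := ⟨Nat.prime_two⟩
  by_contra hσ
  have hc : z * σ = σ * z := h.hK.normalizer_comm hzK
  have hnofix : ∀ r ∈ K, r * r = σ → z * r ≠ r * z := fun r hr er e => h.not_fixed_four hzK hσ hr er e
  obtain ⟨D, S, T, hPD, F⟩ := Frame.exists_ge (z := z) (σ := σ)
    (isTwo_sup (twoEl_of_invol h.hK.sq).zpowers (twoEl_of_invol h.hJ.sq) fun p hp => by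
      obtain ⟨n, rfl⟩ := Subgroup.mem_zpowers_iff.mp hp
      exact ((show Commute z σ from hc).zpow_right n).eq)
    (sup_le (zpowers_le.mpr (mem_inf.mpr ⟨mem_C.mpr rfl, mem_C.mpr hc⟩))
      (zpowers_le.mpr (mem_inf.mpr ⟨mem_C.mpr hc.symm, mem_C.mpr rfl⟩)))
  have hzT : z ∈ T := F.DT (hPD (mem_sup_left (Subgroup.mem_zpowers z)))
  have hσS : σ ∈ S := F.DS (hPD (mem_sup_right (Subgroup.mem_zpowers σ)))
  have hQK := h.hK.oneInvol (F.hT.inf_comp h.hK.comp)
  have hzQK : z ∈ normalizer ((T ⊓ K : Subgroup G) : Set G) := mem_normalizer_fintype fun k hk =>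
    mem_inf.mpr ⟨mul_mem (mul_mem hzT hk.1) (inv_mem hzT), (mem_normalizer_iff.mp hzK k).mp hk.2⟩
  obtain ⟨r, hrQ, er, hzr⟩ := hQK.dichotomy (twoEl_of_invol h.hJ.sq) hzQK
  obtain ⟨hrT, hr⟩ := mem_inf.mp hrQ
  replace hzr : z * r * z⁻¹ = r * σ := hzr.resolve_left fun e =>
    hnofix r hr er (mul_inv_eq_iff_eq_mul.mp e)
  have hrz : r * z * r⁻¹ = z * σ := by
    have h1 : z * r = r * σ * z := mul_inv_eq_iff_eq_mul.mp hzr
    have h2 : r⁻¹ * z * r = σ * z := by
      rw [mul_assoc, h1, mul_assoc r, inv_mul_cancel_left]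
    have h3 : r * (σ * z) * r⁻¹ = z := by rw [← h2]; group
    have h4 : r * σ * r⁻¹ = σ := by rw [h.hK.comm hr, mul_inv_cancel_right]
    have h5 : σ * (r * z * r⁻¹) = z := by
      conv_rhs => rw [← h3]
      rw [show r * (σ * z) * r⁻¹ = (r * σ * r⁻¹) * (r * z * r⁻¹) by group, h4]
    calc r * z * r⁻¹ = σ * (σ * (r * z * r⁻¹)) := by rw [← mul_assoc σ σ, h.hK.sq, one_mul]
      _ = z * σ := by rw [h5, hc]
  have hQ := h.hJ.oneInvol (F.hS.inf_comp h.hJ.comp)
  -- the action of `i * ˢi` on the Sylow subgroup of `K`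
  have key : ∀ i ∈ S, i ∈ J →
      (∀ k ∈ K, ⁅i * (σ * i * σ⁻¹), k⁆ ∈ core σ) ∨
      (∀ k ∈ T ⊓ K, i * (σ * i * σ⁻¹) * k * (i * (σ * i * σ⁻¹))⁻¹ = r⁻¹ * k * r) := by
    intro i hiS hi
    obtain ⟨hdD, hdL⟩ := h.diag_facts hc hσ F hσS hiS hi
    set d := i * (σ * i * σ⁻¹) with hd
    obtain ⟨q, hqT, hq, hqd⟩ := h.hK.comp.exists_inner F.hT (F.DT hdD) hdL
    have hqQ : q ∈ T ⊓ K := mem_inf.mpr ⟨hqT, hq⟩
    have hdz : d * z = z * d := mem_C.mp (mem_inf.mp (F.hD.le hdD)).1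
    have hact : ∀ k ∈ T ⊓ K, d * k * d⁻¹ = q * k * q⁻¹ := by
      intro k hk
      have h1 : (q⁻¹ * d) * k * (q⁻¹ * d)⁻¹ * k⁻¹ = 1 := by
        refine eq_one_of_core F.hT.isTwo ?_ (by simpa [commutatorElement_def] using hqd k hk.2)
        have hcT : q⁻¹ * d ∈ T := mul_mem (inv_mem hqT) (F.DT hdD)
        exact mul_mem (mul_mem (mul_mem hcT hk.1) (inv_mem hcT)) (inv_mem hk.1)
      calc d * k * d⁻¹ = q * ((q⁻¹ * d) * k * (q⁻¹ * d)⁻¹ * k⁻¹ * k) * q⁻¹ := by group
        _ = q * k * q⁻¹ := by rw [h1, one_mul]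
    set q' := z * q * z⁻¹ with hq'
    have hq'Q : q' ∈ T ⊓ K := (mem_normalizer_iff.mp hzQK q).mp hqQ
    have hcen : q⁻¹ * q' = 1 ∨ q⁻¹ * q' = σ := by
      refine hQK.central_cases (mul_mem (inv_mem hqQ) hq'Q) fun k hk => ?_
      have hk0 : z⁻¹ * k * z ∈ T ⊓ K := by
        simpa using (mem_normalizer_iff.mp (inv_mem hzQK) k).mp hk
      have h1 : q' * k * q'⁻¹ = q * k * q⁻¹ := by
        calc q' * k * q'⁻¹ = z * (q * (z⁻¹ * k * z) * q⁻¹) * z⁻¹ := by rw [hq']; group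
          _ = z * (d * (z⁻¹ * k * z) * d⁻¹) * z⁻¹ := by rw [hact _ hk0]
          _ = (z * d * z⁻¹) * k * (z * d * z⁻¹)⁻¹ := by group
          _ = q * k * q⁻¹ := by rw [← hdz, mul_inv_cancel_right, hact k hk]
      calc k * (q⁻¹ * q') = q⁻¹ * (q * k * q⁻¹) * q' := by group
        _ = q⁻¹ * (q' * k * q'⁻¹) * q' := by rw [h1]
        _ = q⁻¹ * q' * k := by group
    rcases hQK.order_cases hqQ with e | e | e
    · exact Or.inl fun k hk => by simpa [e] using hqd k hk
    · refine Or.inl fun k hk => ?_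
      have h1 := hqd k hk
      have h2 : ⁅σ⁻¹ * d, k⁆ = ⁅d, k⁆ := by
        have hσd : σ⁻¹ * d = d * σ⁻¹ :=
          ((show Commute d σ from mem_C.mp (map_subtype_le _ hdL)).inv_right).eq.symm
        have hσk : σ⁻¹ * k = k * σ⁻¹ := ((show Commute k σ from h.hK.comm hk).inv_right).eq.symm
        rw [hσd, commutatorElement_def, commutatorElement_def, mul_assoc d σ⁻¹ k, hσk]
        group
      rw [e, h2] at h1
      exact h1
    · right
      rcases hcen with e' | e'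
      · exfalso
        obtain ⟨a, haq, ha, ea⟩ := hQK.exists_four hqQ e
        obtain ⟨n, rfl⟩ := Subgroup.mem_zpowers_iff.mp haq
        refine hnofix _ ha.2 ea (mul_inv_eq_iff_eq_mul.mp ?_)
        rw [← conj_zpow, ← hq', ← inv_mul_eq_one.mp e']
      · have hzq : z * q * z⁻¹ = q * σ := by rw [← hq', ← e', mul_inv_cancel_left]
        have hσz : z * σ * z⁻¹ = σ := by rw [hc, mul_inv_cancel_right]
        have eq2 : q * q = σ := by
          rcases hQK.order_cases (mul_mem hqQ hqQ) with e2 | e2 | e2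
          · exfalso
            have h2 : orderOf q ∣ 2 := orderOf_dvd_of_pow_eq_one (by rw [pow_two]; exact e2)
            have := Nat.le_of_dvd two_pos h2
            omega
          · exact e2
          · exfalso
            have hfix : z * (q * q) * z⁻¹ = q * q := by
              rw [show z * (q * q) * z⁻¹ = (z * q * z⁻¹) * (z * q * z⁻¹) by group, hzq,
                show q * σ * (q * σ) = q * (σ * q) * σ by group, ← h.hK.comm hq,
                show q * (q * σ) * σ = q * q * (σ * σ) by group, h.hK.sq, mul_one]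
            obtain ⟨a, haq, ha, ea⟩ := hQK.exists_four (mul_mem hqQ hqQ) e2
            obtain ⟨n, rfl⟩ := Subgroup.mem_zpowers_iff.mp haq
            refine hnofix _ ha.2 ea (mul_inv_eq_iff_eq_mul.mp ?_)
            rw [← conj_zpow, hfix]
        have hfix : z * (q * r) * z⁻¹ = q * r := by
          rw [show z * (q * r) * z⁻¹ = (z * q * z⁻¹) * (z * r * z⁻¹) by group, hzq, hzr,
            show q * σ * (r * σ) = q * (σ * r) * σ by group, ← h.hK.comm hr,
            show q * (r * σ) * σ = q * r * (σ * σ) by group, h.hK.sq, mul_one]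
        have hqr : q * r = 1 ∨ q * r = σ := by
          rcases hQK.order_cases (mul_mem hqQ hrQ) with e2 | e2 | e2
          · exact Or.inl e2
          · exact Or.inr e2
          · exfalso
            obtain ⟨a, haq, ha, ea⟩ := hQK.exists_four (mul_mem hqQ hrQ) e2
            obtain ⟨n, rfl⟩ := Subgroup.mem_zpowers_iff.mp haq
            refine hnofix _ ha.2 ea (mul_inv_eq_iff_eq_mul.mp ?_)
            rw [← conj_zpow, hfix]
        intro k hk
        rw [hact k hk]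
        rcases hqr with e2 | e2
        · rw [eq_inv_of_mul_eq_one_left e2, inv_inv]
        · have hkσ : σ * k * σ⁻¹ = k := by rw [← h.hK.comm hk.2, mul_inv_cancel_right]
          have hq_eq : q = r⁻¹ * σ := by
            rw [eq_mul_inv_of_mul_eq e2]
            exact ((show Commute r σ from h.hK.comm hr).inv_left).eq.symm
          rw [hq_eq, show r⁻¹ * σ * k * (r⁻¹ * σ)⁻¹ = r⁻¹ * (σ * k * σ⁻¹) * r by group, hkσ]
  -- some element of order four of `J` gives the trivial action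
  obtain ⟨i, hiQ, ei, hi0⟩ : ∃ i ∈ S ⊓ J, i * i = z ∧
      ∀ k ∈ K, ⁅i * (σ * i * σ⁻¹), k⁆ ∈ core σ := by
    obtain ⟨a, haQ, ea⟩ := hQ.exists_sq
    obtain ⟨x, hxQ, hxa, ex⟩ := hQ.exists_inverter haQ ea
    by_cases h1 : ∀ k ∈ K, ⁅a * (σ * a * σ⁻¹), k⁆ ∈ core σ
    · exact ⟨a, haQ, ea, h1⟩
    by_cases h2 : ∀ k ∈ K, ⁅x * (σ * x * σ⁻¹), k⁆ ∈ core σ
    · exact ⟨x, hxQ, ex, h2⟩
    refine ⟨a * x, mul_mem haQ hxQ, ?_, ?_⟩
    · have h3 : x * a = a * z * x := mul_inv_eq_iff_eq_mul.mp hxa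
      rw [show a * x * (a * x) = a * (x * a) * x by group, h3,
        show a * (a * z * x) * x = (a * a) * z * (x * x) by group, ea, ex, h.hJ.sq, one_mul]
    refine (key (a * x) (mul_mem haQ.1 hxQ.1) (mul_mem haQ.2 hxQ.2)).resolve_right fun h3 => ?_
    obtain ⟨k, hk, hk'⟩ := hQK.exists_not_commute hrQ er
    have hA := (key a haQ.1 haQ.2).resolve_left h1
    have hX := (key x hxQ.1 hxQ.2).resolve_left h2
    have hk1 : r⁻¹ * k * r ∈ T ⊓ K := mul_mem (mul_mem (inv_mem hrQ) hk) hrQ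
    have hb : σ * a * σ⁻¹ * x = x * (σ * a * σ⁻¹) :=
      (h.hJ.comp.conj_of_comm hc.symm).commute_exact h.hJ.comp
        (fun e => hσ (mem_normalizer_of_map_conj e)) F.hS.isTwo
        (mul_mem (mul_mem hσS haQ.1) (inv_mem hσS)) ⟨a, haQ.2, rfl⟩ hxQ.1 hxQ.2
    have hprod : a * x * (σ * (a * x) * σ⁻¹) = a * (σ * a * σ⁻¹) * (x * (σ * x * σ⁻¹)) := by
      rw [show σ * (a * x) * σ⁻¹ = (σ * a * σ⁻¹) * (σ * x * σ⁻¹) by group,
        show a * (σ * a * σ⁻¹) * (x * (σ * x * σ⁻¹)) = a * ((σ * a * σ⁻¹) * x) * (σ * x * σ⁻¹) by group,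
        hb]
      group
    have h4 := h3 k hk
    rw [hprod] at h4
    have h5 : r⁻¹ * (r⁻¹ * k * r) * r = r⁻¹ * k * r := by
      refine (hA _ hk1).symm.trans ?_
      rw [← hX k hk]
      refine Eq.trans ?_ (h4.trans (hX k hk).symm)
      group
    have h6 : r⁻¹ * k * r = k := mul_left_cancel (a := r⁻¹) (mul_right_cancel h5)
    apply hk'
    calc k * r = r * (r⁻¹ * k * r) := by group
      _ = r * k := by rw [h6]
  obtain ⟨hiS, hi⟩ := mem_inf.mp hiQ
  obtain ⟨hdD, -⟩ := h.diag_facts hc hσ F hσS hiS hi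
  set b := σ * i * σ⁻¹ with hb
  set d := i * b with hd
  have hbJ : b ∈ J.map (MulAut.conj σ).toMonoidHom := ⟨i, hi, rfl⟩
  have hne : J ≠ J.map (MulAut.conj σ).toMonoidHom := fun e => hσ (mem_normalizer_of_map_conj e.symm)
  have hB := h.hJ.comp.conj_of_comm hc.symm
  have hbS : b ∈ S := mul_mem (mul_mem hσS hiS) (inv_mem hσS)
  have cib : Commute i b := h.hJ.comp.commute_exact hB hne F.hS.isTwo hiS hi hbS hbJ
  have eb : b * b = z := conj_sq ei hc.symm
  have hiz : i * z = z * i := h.hJ.comm hi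
  have hbz : b * z = z * b := mem_C.mp (hB.1 hbJ)
  have hbi : b⁻¹ = b * z := inv_eq_of_mul_eq_one_right (by rw [← mul_assoc, eb, h.hJ.sq])
  set w := i * b⁻¹ with hw
  have hwd : w = d * z := by rw [hw, hd, hbi, mul_assoc i b z]
  set g := r * i with hg
  have hrd : r * d * r⁻¹ = d := by
    have h1 := eq_one_of_core F.hT.isTwo (x := ⁅d, r⁆) (by
      rw [commutatorElement_def]
      exact mul_mem (mul_mem (mul_mem (F.DT hdD) hrT) (inv_mem (F.DT hdD))) (inv_mem hrT)) (hi0 r hr)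
    rw [commutatorElement_eq_one_iff_mul_comm] at h1
    rw [← h1, mul_inv_cancel_right]
  have hgw : g * σ * g⁻¹ = w := by
    calc g * σ * g⁻¹ = r * ((i * (σ * i⁻¹ * σ⁻¹)) * σ) * r⁻¹ := by rw [hg]; group
      _ = r * (w * σ) * r⁻¹ := by rw [hw, hb]; group
      _ = r * (d * z * σ) * r⁻¹ := by rw [hwd]
      _ = (r * d * r⁻¹) * (r * z * r⁻¹) * (r * σ * r⁻¹) := by group
      _ = d * (z * σ) * σ := by rw [hrd, hrz, h.hK.comm hr, mul_inv_cancel_right]
      _ = w := by rw [← mul_assoc, mul_assoc (d * z), h.hK.sq, mul_one, hwd]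
  have hM := h.hK.conj g
  rw [hgw] at hM
  have hwz : z * w = w * z := by
    rw [hw]; exact ((show Commute z i from hiz.symm).mul_right (show Commute z b from hbz.symm).inv_right).eq
  have hgz : g⁻¹ * z * g = d * σ := by
    have h1 : r⁻¹ * z * r = z * σ := by
      have h2 : z = r * (z * σ) * r⁻¹ := by
        rw [show r * (z * σ) * r⁻¹ = (r * z * r⁻¹) * (r * σ * r⁻¹) by group, hrz, h.hK.comm hr,
          mul_inv_cancel_right, mul_assoc, h.hK.sq, mul_one]
      conv_lhs => rw [h2]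
      group
    have hii : i⁻¹ = i * z := inv_eq_of_mul_eq_one_right (by rw [← mul_assoc, ei, h.hJ.sq])
    calc g⁻¹ * z * g = i⁻¹ * (r⁻¹ * z * r) * i := by rw [hg]; group
      _ = i⁻¹ * (z * σ) * i := by rw [h1]
      _ = i⁻¹ * z * (σ * i * σ⁻¹) * σ := by group
      _ = d * σ := by rw [hii, ← hb, mul_assoc i, h.hJ.sq, mul_one, hd]
  have hcen : ∀ k ∈ K.map (MulAut.conj g).toMonoidHom, ⁅z, k⁆ ∈ core w := by
    rintro _ ⟨k, hk, rfl⟩
    have h1 : ⁅g⁻¹ * z * g, k⁆ ∈ core σ := by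
      rw [hgz, show ⁅d * σ, k⁆ = d * (σ * k * σ⁻¹) * d⁻¹ * k⁻¹ by rw [commutatorElement_def]; group,
        ← h.hK.comm hk, mul_inv_cancel_right, ← commutatorElement_def]
      exact hi0 k hk
    have h2 := core_conj g h1
    rw [hgw] at h2
    convert h2 using 1
    simp only [MulEquiv.coe_toMonoidHom, MulAut.conj_apply, commutatorElement_def]
    group
  obtain ⟨x, hxQ, hxi, -⟩ := hQ.exists_inverter hiQ ei
  obtain ⟨hxS, hx⟩ := mem_inf.mp hxQ
  have hwS : w ∈ S := mul_mem hiS (inv_mem hbS)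
  have hxw : w * x ≠ x * w := by
    intro e
    have cxb : Commute x b := h.hJ.comp.commute_exact hB hne F.hS.isTwo hxS hx hbS hbJ
    have h1 : w * x * w⁻¹ = x * z := by
      rw [hw, show i * b⁻¹ * x * (i * b⁻¹)⁻¹ = i * (b⁻¹ * x * b) * i⁻¹ by group,
        show b⁻¹ * x * b = x by rw [← cxb.inv_right.eq, inv_mul_cancel_right]]
      exact swap_inverter h.hJ.sq (h.hJ.comm hx) hiz hxi
    rw [e, mul_inv_cancel_right] at h1
    exact h.hJ.ne (mul_left_cancel (a := x) ((mul_one x).trans h1)).symm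
  have hlt := qcard_lt h.hJ hM hwz hcen F.hS.isTwo hwS hxS hx hxw
  rw [qcard_conj, ← h.card] at hlt
  exact lt_irrefl _ hlt

end Cfsg.Lib.Sig.Intr
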