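import Cfsg.Agent.Lib.Sig.IntrinsicPair.Config

/-!
The element moving `J` cannot have square `σ`; the main theorem.
-/

set_option autoImplicit false
set_option linter.style.haveILetI false

namespace Cfsg.Lib.Sig.Intr

open Subgroup
open scoped commutatorElement

universe u

variable {G : Type u} [Group G] [Finite G] {J K D S T : Subgroup G} {z σ y : G}

namespace Moves

/-- No element of order four of the Sylow subgroup of `J` is negated by `σ = y²`. -/
theorem false_of_square_negated (h : Moves J K z σ D S T y) (hy : y * y = σ) {b : G}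
    (hb : b ∈ S ⊓ J) (eb : b * b = z) (hσb : σ * b * σ⁻¹ = b * z) : False := by
  have hg : y * y * b * (y * y)⁻¹ = b * z := by rw [hy]; exact hσb
  have hvD := h.comm_mem hb (Or.inr hσb)
  have hvmove := h.comm_move hb eb hg
  set v := b * (y * b * y⁻¹)⁻¹ with hv
  have hσz : σ * z = z * σ := h.zσ.symm
  have hbz : b * z = z * b := h.pair.hJ.comm hb.2
  have hbσ : b * σ * b⁻¹ = σ * z := swap_inverter h.pair.hJ.sq hσz hbz hσb
  have hbσ' : b⁻¹ * σ * b = σ * z := by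
    have h1 : σ = b⁻¹ * σ * b * z := by
      conv_lhs => rw [show σ = b⁻¹ * (b * σ * b⁻¹) * b by group, hbσ]
      rw [mul_assoc (b⁻¹), mul_assoc σ z b, ← hbz]
      group
    conv_rhs => rw [h1]
    rw [mul_assoc _ z z, h.pair.hJ.sq, mul_one]
  set K1 := K.map (MulAut.conj b).toMonoidHom with hK1
  have hy1 : b * y * b⁻¹ = v * y := by rw [hv]; group
  have hzNK : σ * z ∈ normalizer (K : Set G) := mul_mem (le_normalizer h.pair.hK.mem) h.zN
  have hvσ : v * σ = σ * v := mem_C.mp (mem_inf.mp (h.frame.hD.le hvD)).2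
  have hyσ : y * σ = σ * y := h.σy.eq.symm
  have hCC : centralizer ({σ} : Set G) ⊓ centralizer ({σ * z} : Set G) =
      centralizer ({z} : Set G) ⊓ centralizer ({σ} : Set G) := by
    ext q
    rw [mem_inf, mem_inf, mem_C, mem_C, mem_C]
    refine ⟨fun ⟨h1, h2⟩ => ⟨?_, h1⟩, fun ⟨h1, h2⟩ =>
      ⟨h2, ((show Commute q σ from h2).mul_right (show Commute q z from h1)).eq⟩⟩
    have h3 : σ * (q * z) = σ * (z * q) := by
      rw [← mul_assoc, ← h1, mul_assoc q σ z, h2, mul_assoc]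
    exact mul_left_cancel h3
  have hDle : D ≤ centralizer ({σ * z} : Set G) := by
    intro q hq
    have := h.frame.hD.le hq
    rw [← hCC] at this
    exact (mem_inf.mp this).2
  obtain ⟨T1, hDT1, hT1⟩ := Syl.exists_ge h.frame.hD.isTwo hDle
  have hF : Frame σ (σ * z) D T T1 := ⟨hCC ▸ h.frame.hD, h.frame.hT, hT1, h.frame.DT, hDT1⟩
  have hP : Pair K K1 σ (σ * z) := ⟨h.pair.hK, hbσ ▸ h.pair.hK.conj b, (qcard_conj _ _).symm,
    fun e => h.pair.hJ.ne (mul_left_cancel (a := σ) ((mul_one σ).trans e)).symm⟩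
  have hσK1 : σ ∈ normalizer (K1 : Set G) := by
    refine mem_normalizer_fintype ?_
    rintro _ ⟨q, hq, rfl⟩
    refine ⟨(σ * z) * q * (σ * z)⁻¹, (mem_normalizer_iff.mp hzNK q).mp hq, ?_⟩
    show b * (σ * z * q * (σ * z)⁻¹) * b⁻¹ = σ * (b * q * b⁻¹) * σ⁻¹
    rw [← hbσ']; group
  have hy2 : (v * y) * (v * y) = σ * z := by
    rw [← hy1, ← hbσ, ← hy]; group
  have hM : Moves K K1 σ (σ * z) D T T1 (v * y) :=
    ⟨hP, hF, hσK1, hzNK, hDT1 (mul_mem hvD h.yD), hy1 ▸ ⟨y, h.yK, rfl⟩,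
      ((show Commute v σ from hvσ).mul_left (show Commute y σ from hyσ)).eq,
      fun hm => hvmove (by simpa using mul_mem hm (inv_mem (le_normalizer h.yK : y ∈ normalizer (K : Set G)))),
      hy2 ▸ hzNK⟩
  refine hM.false_config hy2 (mem_inf.mpr ⟨h.yT, h.yK⟩) hy
    ((show Commute y σ from hyσ).mul_right (show Commute y z from h.yz)).eq ?_ ?_
  · intro hm
    have hvK1 : v ∈ normalizer (K1 : Set G) := by
      have h1 : v * y ∈ normalizer (K1 : Set G) := le_normalizer (hy1 ▸ ⟨y, h.yK, rfl⟩ : v * y ∈ K1)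
      simpa using mul_mem h1 (inv_mem hm)
    have hbv : b⁻¹ * v * b = v := by
      have c : Commute b (y * b * y⁻¹) := h.cross hb hb
      rw [hv]
      conv_lhs => rw [show b⁻¹ * (b * (y * b * y⁻¹)⁻¹) * b = (y * b * y⁻¹)⁻¹ * b by group, ← c.inv_right.eq]
    apply hvmove
    refine mem_normalizer_fintype fun q hq => ?_
    obtain ⟨q', hq', e'⟩ := (mem_normalizer_iff.mp hvK1 _).mp (⟨q, hq, rfl⟩ : b * q * b⁻¹ ∈ K1)
    have e : q' = (b⁻¹ * v * b) * q * (b⁻¹ * v * b)⁻¹ := by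
      calc q' = b⁻¹ * (b * q' * b⁻¹) * b := by group
        _ = b⁻¹ * (v * (b * q * b⁻¹) * v⁻¹) * b := by
          rw [show b * q' * b⁻¹ = v * (b * q * b⁻¹) * v⁻¹ from e']
        _ = _ := by group
    rw [hbv] at e
    exact e ▸ hq'
  · intro k hk
    have hzk : z * k * z⁻¹ ∈ K := (mem_normalizer_iff.mp h.zN k).mp hk.2
    rw [show σ * z * k * (σ * z)⁻¹ = σ * (z * k * z⁻¹) * σ⁻¹ by group, ← h.pair.hK.comm hzk,
      mul_inv_cancel_right, h.z_acts hy hb eb hσb k hk]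

/-- A fixed element normalizing `K` produces a negated one. -/
theorem false_of_fixed_normalizing (h : Moves J K z σ D S T y) (hy : y * y = σ) {b : G}
    (hb : b ∈ S ⊓ J) (eb : b * b = z) (_hσb : σ * b * σ⁻¹ = b) (hbK : b ∈ normalizer (K : Set G)) :
    False := by
  obtain ⟨x, hx, hxb, ex⟩ := h.hQ.exists_inverter hb eb
  set b' := y * b * y⁻¹ with hb'
  have cbb : Commute b b' := h.cross hb hb
  have eb' : b' * b' = z := conj_sq eb h.yz
  have hu2 : (b * b'⁻¹) * (b * b'⁻¹) = 1 := by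
    rw [show b * b'⁻¹ * (b * b'⁻¹) = b * (b'⁻¹ * b) * b'⁻¹ by group, ← cbb.inv_right.eq,
      show b * (b * b'⁻¹) * b'⁻¹ = (b * b) * (b' * b')⁻¹ by group, eb, eb', mul_inv_cancel]
  have hu : b * b'⁻¹ = σ := by
    refine (h.pair.hK.uniq _ ?_ hu2).resolve_left fun e => ?_
    · rw [show b * b'⁻¹ = (b * y * b⁻¹) * y⁻¹ by rw [hb']; group]
      exact mul_mem ((mem_normalizer_iff.mp hbK y).mp h.yK) (inv_mem h.yK)
    · exact h.pair.hJ.not_mem_other h.comp' h.ne' hb.2 ((mul_inv_eq_one.mp e) ▸ ⟨b, hb.2, rfl⟩) eb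
  refine h.false_of_square_negated hy hx ex ?_
  rw [← hu, show b * b'⁻¹ * x * (b * b'⁻¹)⁻¹ = b * (b'⁻¹ * x * b') * b⁻¹ by group,
    show b'⁻¹ * x * b' = x by rw [← (h.cross hx hb).inv_right.eq, inv_mul_cancel_right]]
  exact swap_inverter h.pair.hJ.sq (h.pair.hJ.comm hx.2) (h.pair.hJ.comm hb.2) hxb

/-- `y²` is not `σ`. -/
theorem false_of_square (h : Moves J K z σ D S T y) (hy : y * y = σ) : False := by
  haveI : Fact (Nat.Prime 2) := ⟨Nat.prime_two⟩
  have hQ := h.hQ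
  have hσS : σ ∈ S := h.frame.DS h.σD
  have hσQ : σ ∈ normalizer ((S ⊓ J : Subgroup G) : Set G) := mem_normalizer_fintype fun q hq =>
    mem_inf.mpr ⟨mul_mem (mul_mem hσS hq.1) (inv_mem hσS), (mem_normalizer_iff.mp h.σN q).mp hq.2⟩
  obtain ⟨a, ha, ea, hσa | hσa⟩ := hQ.dichotomy (twoEl_of_invol h.pair.hK.sq) hσQ
  swap
  · exact h.false_of_square_negated hy ha ea hσa
  have hfixmove : ∀ b ∈ S ⊓ J, b * b = z → σ * b * σ⁻¹ = b → b ∉ normalizer (K : Set G) :=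
    fun b hb eb hσb hbK => h.false_of_fixed_normalizing hy hb eb hσb hbK
  obtain ⟨x, hx, hxa, ex⟩ := hQ.exists_inverter ha ea
  have hσxQ : σ * x * σ⁻¹ ∈ S ⊓ J := (mem_normalizer_iff.mp hσQ x).mp hx
  have hzσ' : σ * z * σ⁻¹ = z := by rw [← h.zσ, mul_inv_cancel_right]
  set t := x⁻¹ * (σ * x * σ⁻¹) with ht
  have htQ : t ∈ S ⊓ J := mul_mem (inv_mem hx) hσxQ
  have hσaC : Commute σ a := mul_inv_eq_iff_eq_mul.mp hσa
  have hta : a * t = t * a := by
    have e1 : (σ * x * σ⁻¹) * a * (σ * x * σ⁻¹)⁻¹ = a * z := by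
      calc σ * x * σ⁻¹ * a * (σ * x * σ⁻¹)⁻¹ = σ * (x * (σ⁻¹ * a * σ) * x⁻¹) * σ⁻¹ := by group
        _ = σ * (a * z) * σ⁻¹ := by
          rw [show σ⁻¹ * a * σ = a by rw [mul_assoc, ← hσaC.eq, inv_mul_cancel_left], hxa]
        _ = (σ * a * σ⁻¹) * (σ * z * σ⁻¹) := by group
        _ = a * z := by rw [hσa, hzσ']
    have e2 : x⁻¹ * (a * z) * x = a := by rw [← hxa]; group
    calc a * t = (x⁻¹ * (a * z) * x) * t := by rw [e2]
      _ = (x⁻¹ * ((σ * x * σ⁻¹) * a * (σ * x * σ⁻¹)⁻¹) * x) * t := by rw [e1]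
      _ = t * a := by rw [ht]; group
  have hσt : σ * t * σ⁻¹ = t⁻¹ := by
    calc σ * t * σ⁻¹ = σ * x⁻¹ * σ⁻¹ * ((σ * σ) * x * (σ * σ)⁻¹) := by rw [ht]; group
      _ = t⁻¹ := by rw [h.pair.hK.sq, ht]; group
  have e3 : σ * x * σ⁻¹ = x * t := by rw [ht]; group
  rcases hQ.order_cases htQ with e | e | e
  swap
  · exact h.false_of_square_negated hy hx ex (e ▸ e3)
  swap
  · obtain ⟨n, hn⟩ := Subgroup.mem_zpowers_iff.mp (hQ.four_mem_zpowers ha ea htQ hta e)
    have h1 : σ * a * σ⁻¹ = a⁻¹ := by rw [← hn, ← conj_zpow, hσt, inv_zpow]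
    rw [hσa] at h1
    exact h.pair.hJ.ne (ea ▸ (eq_inv_iff_mul_eq_one.mp h1))
  rw [e, mul_one] at e3
  -- `a`, `x` and `a * x` are fixed
  have hσxC : Commute σ x := mul_inv_eq_iff_eq_mul.mp e3
  have hxa' : x * a = a * z * x := mul_inv_eq_iff_eq_mul.mp hxa
  have ek : (a * x) * (a * x) = z := by
    rw [show a * x * (a * x) = a * (x * a) * x by group, hxa',
      show a * (a * z * x) * x = (a * a) * z * (x * x) by group, ea, ex, h.pair.hJ.sq, one_mul]
  have hσk : σ * (a * x) * σ⁻¹ = a * x := by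
    rw [(hσaC.mul_right hσxC).eq, mul_inv_cancel_right]
  have haK := hfixmove a ha ea hσa
  have hxK := hfixmove x hx ex e3
  have hkK := hfixmove (a * x) (mul_mem ha hx) ek hσk
  -- `z` acts on the Sylow subgroup of `K` as `y`
  set a' := y * a * y⁻¹ with ha'
  set x' := y * x * y⁻¹ with hx'
  set A := a * y * a⁻¹ with hA
  set X := x * y * x⁻¹ with hX
  set C := (a * x) * y * (a * x)⁻¹ with hC
  have hyzc : y * z * y⁻¹ = z := by rw [h.yz, mul_inv_cancel_right]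
  have hzz : z = (C * y⁻¹)⁻¹ * ((A * y⁻¹) * (X * y⁻¹)) := by
    have c1 : Commute a'⁻¹ x := (h.cross hx ha).symm.inv_left
    have e1 : x' * a' = a' * z * x' := by
      calc x' * a' = y * (x * a) * y⁻¹ := by rw [hx', ha']; group
        _ = y * (a * z * x) * y⁻¹ := by rw [hxa']
        _ = a' * (y * z * y⁻¹) * x' := by rw [hx', ha']; group
        _ = a' * z * x' := by rw [hyzc]
    have hu : (A * y⁻¹) * (X * y⁻¹) = a * x * (x' * a')⁻¹ := by
      calc (A * y⁻¹) * (X * y⁻¹) = a * (a'⁻¹ * x) * x'⁻¹ := by rw [hA, hX, ha', hx']; group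
        _ = a * x * (x' * a')⁻¹ := by rw [c1.eq]; group
    have hk : C * y⁻¹ = a * x * (a' * x')⁻¹ := by rw [hC, ha', hx']; group
    have hzc' : Commute x' z := mem_C.mp (h.comp'.1 ⟨x, hx.2, rfl⟩)
    have hzc'' : Commute a' z := mem_C.mp (h.comp'.1 ⟨a, ha.2, rfl⟩)
    rw [hu, hk, e1, show (a * x * (a' * x')⁻¹)⁻¹ * (a * x * (a' * z * x')⁻¹) =
      a' * (x' * x'⁻¹) * z⁻¹ * a'⁻¹ by group, mul_inv_cancel, mul_one, hQ.inv_z, hzc''.eq,
      mul_inv_cancel_right]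
  have hfix : ∀ {g : G}, g ∈ T → g * σ = σ * g → g ∉ normalizer (K : Set G) →
      ∀ k ∈ T ⊓ K, Commute (g * y * g⁻¹) k := by
    intro g hgT hgσ hgK k hk
    exact (h.pair.hK.comp.commute_exact (h.pair.hK.comp.conj_of_comm hgσ)
      (fun e => hgK (mem_normalizer_of_map_conj e.symm)) h.frame.hT.isTwo hk.1 hk.2
      (mul_mem (mul_mem hgT h.yT) (inv_mem hgT)) ⟨y, h.yK, rfl⟩).symm
  have haT : a ∈ T := h.frame.DT (h.frame.mem_left ha.1 hσaC.eq.symm)
  have hxT : x ∈ T := h.frame.DT (h.frame.mem_left hx.1 hσxC.eq.symm)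
  have hyQ : y ∈ T ⊓ K := mem_inf.mpr ⟨h.yT, h.yK⟩
  have hact : ∀ k ∈ T ⊓ K, z * k * z⁻¹ = y * k * y⁻¹ := by
    intro k hk
    set k1 := y⁻¹ * k * y with hk1
    have hk1Q : k1 ∈ T ⊓ K := mul_mem (mul_mem (inv_mem hyQ) hk) hyQ
    set k2 := y⁻¹ * k1 * y with hk2
    have hk2Q : k2 ∈ T ⊓ K := mul_mem (mul_mem (inv_mem hyQ) hk1Q) hyQ
    have cX : Commute X k1 := hfix hxT hσxC.eq.symm hxK k1 hk1Q
    have cA : Commute A k2 := hfix haT hσaC.eq.symm haK k2 hk2Q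
    have cC : Commute C k2 := hfix (mul_mem haT hxT) (hσaC.mul_right hσxC).eq.symm hkK k2 hk2Q
    calc z * k * z⁻¹ = y * (C⁻¹ * (A * (y⁻¹ * (X * k1 * X⁻¹) * y) * A⁻¹) * C) * y⁻¹ := by
          rw [hzz, hk1]; group
      _ = y * k2 * y⁻¹ := by
          rw [cX.eq, mul_inv_cancel_right, ← hk2, cA.eq, mul_inv_cancel_right, cC.inv_left.eq,
            inv_mul_cancel_right]
      _ = y⁻¹ * k * y := by rw [hk2, hk1]; group
      _ = (y * y)⁻¹ * (y * k * y⁻¹) * (y * y) := by group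
      _ = y * k * y⁻¹ := by
        have hm : y * k * y⁻¹ ∈ K := mul_mem (mul_mem h.yK hk.2) (inv_mem h.yK)
        rw [hy, mul_assoc, h.pair.hK.comm hm, inv_mul_cancel_left]
  obtain ⟨x2, hx2, hx2y, ex2⟩ := h.hQK.exists_inverter hyQ hy
  refine (h.swap ha ea hσaC.eq.symm haK).false_of_square_negated ea hx2 ex2 ?_
  rw [hact x2 hx2]
  exact swap_inverter h.pair.hK.sq (h.pair.hK.comm hx2.2) (h.pair.hK.comm h.yK) hx2y

end Moves

/-- A two-element of `K` of order at least four centralizing `z` normalizes `J`. -/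
theorem Pair.norm_one (h : Pair J K z σ) (hyK : y ∈ K) (hy2 : TwoEl y) (h4 : 4 ≤ orderOf y)
    (hyz : y * z = z * y) : y ∈ normalizer (J : Set G) := by
  haveI : Fact (Nat.Prime 2) := ⟨Nat.prime_two⟩
  by_contra hyN
  -- roots of `σ` among the powers of `y`
  have hroot : ∀ g ∈ K, TwoEl g → 4 ≤ orderOf g → ∃ r ∈ Subgroup.zpowers g, r * r = σ := by
    intro g hg hg2 hg4
    obtain ⟨r, hr, ho⟩ := exists_pow_order_four hg2 hg4
    have hrK : r ∈ K := zpowers_le.mpr hg hr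
    have h1 : (r * r) * (r * r) = 1 := by
      rw [← pow_two, ← pow_two, ← pow_mul, show 2 * 2 = orderOf r by rw [ho], pow_orderOf_eq_one]
    refine ⟨r, hr, (h.hK.uniq _ (mul_mem hrK hrK) h1).resolve_left fun e => ?_⟩
    have h2 : orderOf r ∣ 2 := orderOf_dvd_of_pow_eq_one (by rw [pow_two]; exact e)
    have := Nat.le_of_dvd two_pos h2
    omega
  obtain ⟨r, hr, er⟩ := hroot y hyK hy2 h4
  obtain ⟨n, rfl⟩ := Subgroup.mem_zpowers_iff.mp hr
  have hzr : Commute z (y ^ n) := (show Commute y z from hyz).symm.zpow_right n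
  have hzσ : z * σ = σ * z := by rw [← er]; exact (hzr.mul_right hzr).eq
  have hzN : z ∈ normalizer (K : Set G) :=
    h.hK.mem_normalizer_of_fixed hzσ (zpow_mem hyK n) er hzr.eq
  have hσN : σ ∈ normalizer (J : Set G) := h.norm_two hzN
  classical
  have hex : ∃ m : ℕ, y ^ 2 ^ m ∈ normalizer (J : Set G) := by
    obtain ⟨m, hm⟩ := hy2
    exact ⟨m, by rw [← hm, pow_orderOf_eq_one]; exact one_mem _⟩
  obtain ⟨l, hl⟩ : ∃ l, Nat.find hex = l + 1 := ⟨Nat.find hex - 1, by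
    have : Nat.find hex ≠ 0 := fun e => hyN (by simpa [e] using Nat.find_spec hex)
    omega⟩
  set y1 := y ^ 2 ^ l with hy1
  have hy1N : y1 ∉ normalizer (J : Set G) := Nat.find_min hex (by omega)
  have hy1sq : y1 * y1 ∈ normalizer (J : Set G) := by
    have := Nat.find_spec hex
    rwa [hl, pow_succ, pow_mul, pow_two, ← hy1] at this
  have hy1K : y1 ∈ K := pow_mem hyK _
  have hy1z : y1 * z = z * y1 := ((show Commute y z from hyz).pow_left _).eq
  have hy1two : TwoEl y1 := twoEl_of_mem hy2.zpowers (npow_mem_zpowers y _)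
  have hy1σ : y1 * σ = σ * y1 := h.hK.comm hy1K
  obtain ⟨D, S, T, hPD, F⟩ := Frame.exists_ge (z := z) (σ := σ) hy1two.zpowers
    (zpowers_le.mpr (mem_inf.mpr ⟨mem_C.mpr hy1z, mem_C.mpr hy1σ⟩))
  have hM : Moves J K z σ D S T y1 :=
    ⟨h, F, hzN, hσN, F.DT (hPD (Subgroup.mem_zpowers y1)), hy1K, hy1z, hy1N, hy1sq⟩
  have hQK := hM.hQK
  rcases hQK.order_cases (mul_mem (mem_inf.mpr ⟨hM.yT, hM.yK⟩) (mem_inf.mpr ⟨hM.yT, hM.yK⟩)) with e | e | e
  · rcases h.hK.uniq y1 hy1K e with e' | e'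
    · exact hy1N (e' ▸ one_mem _)
    · exact hy1N (e' ▸ hσN)
  · exact hM.false_of_square e
  · exact hM.false_of_big e

end Cfsg.Lib.Sig.Intr
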