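import Mathlib.GroupTheory.Sylow
import Mathlib.GroupTheory.SpecificGroups.Cyclic
import Mathlib.GroupTheory.Nilpotent
import Mathlib.Tactic.Group
import Mathlib.Data.Fintype.Lattice
import Cfsg.Agent.Lib.Fusion.Alperin

/-!
Two-groups with a unique involution `z`: inverters, and the dichotomy for an element normalizing such
a group (it centralizes an element of order four or sends one to its product with `z`).
-/

set_option autoImplicit false
set_option linter.style.haveILetI false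

namespace Cfsg.Lib.Sig.Intr

open Subgroup

variable {G : Type*} [Group G] [Finite G]

/-- A noncyclic two-subgroup `Q` with unique involution `z`. -/
structure OneInvol (Q : Subgroup G) (z : G) : Prop where
  isTwo : IsPGroup 2 Q
  mem : z ∈ Q
  sq : z * z = 1
  ne : z ≠ 1
  uniq : ∀ x ∈ Q, x * x = 1 → x = 1 ∨ x = z
  notCyclic : ¬ IsCyclic Q

variable {Q : Subgroup G} {z : G}

omit [Finite G] in
theorem OneInvol.comm (h : OneInvol Q z) {x : G} (hx : x ∈ Q) : z * x = x * z := by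
  have hm : x * z * x⁻¹ ∈ Q := mul_mem (mul_mem hx h.mem) (inv_mem hx)
  rcases h.uniq _ hm (by rw [show x * z * x⁻¹ * (x * z * x⁻¹) = x * (z * z) * x⁻¹ by group, h.sq, mul_one, mul_inv_cancel]) with e | e
  · exact absurd (by rwa [conj_eq_one_iff] at e) h.ne
  · exact (mul_inv_eq_iff_eq_mul.mp e).symm

omit [Finite G] in
theorem OneInvol.inv_z (h : OneInvol Q z) : z⁻¹ = z := inv_eq_of_mul_eq_one_right h.sq

omit [Finite G] in
/-- An element of order four: its square is `z`. -/
theorem OneInvol.sq_eq (h : OneInvol Q z) {a : G} (ha : a ∈ Q) (h4 : orderOf a = 4) : a * a = z := by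
  have hp : (a * a) * (a * a) = 1 := by
    have := pow_orderOf_eq_one a
    rw [h4] at this
    rw [← this]; simp [pow_succ, mul_assoc]
  rcases h.uniq _ (mul_mem ha ha) hp with e | e
  · exfalso
    have h2 : orderOf a ∣ 2 := orderOf_dvd_of_pow_eq_one (by rw [pow_two]; exact e)
    rw [h4] at h2
    exact absurd (Nat.le_of_dvd two_pos h2) (by decide)
  · exact e

omit [Finite G] in
theorem OneInvol.order_four (h : OneInvol Q z) {a : G} (e : a * a = z) : orderOf a = 4 := by
  haveI : Fact (Nat.Prime 2) := ⟨Nat.prime_two⟩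
  refine orderOf_eq_prime_pow (p := 2) (n := 1) ?_ ?_
  · intro hc
    rw [pow_one, pow_two, e] at hc
    exact h.ne hc
  · rw [show (2 : ℕ) ^ (1 + 1) = 2 * 2 from rfl, pow_mul, pow_two, pow_two, e, h.sq]

omit [Finite G] in
theorem OneInvol.order_cases (h : OneInvol Q z) {x : G} (hx : x ∈ Q) :
    x = 1 ∨ x = z ∨ 4 ≤ orderOf x := by
  obtain ⟨k, hk⟩ := IsPGroup.iff_orderOf.mp h.isTwo ⟨x, hx⟩
  rw [Subgroup.orderOf_mk] at hk
  rcases k with _ | _ | k
  · exact Or.inl (orderOf_eq_one_iff.mp (by rwa [pow_zero] at hk))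
  · have e : x * x = 1 := by
      rw [← pow_two]
      have := pow_orderOf_eq_one x
      rwa [hk] at this
    rcases h.uniq x hx e with e' | e'
    · exact Or.inl e'
    · exact Or.inr (Or.inl e')
  · refine Or.inr (Or.inr ?_)
    rw [hk]
    calc 4 = 2 ^ 2 := rfl
      _ ≤ 2 ^ (k + 2) := Nat.pow_le_pow_right two_pos (by omega)

omit [Finite G] in
/-- A power of order four. -/
theorem exists_pow_order_four {x : G} (hx : ∃ k : ℕ, orderOf x = 2 ^ k) (h4 : 4 ≤ orderOf x) :
    ∃ a ∈ zpowers x, orderOf a = 4 := by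
  obtain ⟨k, hk⟩ := hx
  obtain ⟨j, rfl⟩ : ∃ j, k = j + 2 := ⟨k - 2, by
    have : 2 ≤ k := by
      by_contra hc
      rw [hk] at h4
      have : 2 ^ k ≤ 2 ^ 1 := Nat.pow_le_pow_right two_pos (by omega)
      omega
    omega⟩
  refine ⟨x ^ 2 ^ j, npow_mem_zpowers x _, ?_⟩
  have e : 2 ^ (j + 2) = 2 ^ j * 4 := by rw [pow_add]; norm_num
  rw [orderOf_pow' _ (pow_ne_zero _ two_ne_zero), hk, e, Nat.gcd_mul_right_left,
    Nat.mul_div_cancel_left _ (pow_pos two_pos j)]

omit [Finite G] in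
theorem OneInvol.exists_four (h : OneInvol Q z) {x : G} (hx : x ∈ Q) (h4 : 4 ≤ orderOf x) :
    ∃ a ∈ zpowers x, a ∈ Q ∧ a * a = z := by
  obtain ⟨k, hk⟩ := IsPGroup.iff_orderOf.mp h.isTwo ⟨x, hx⟩
  rw [Subgroup.orderOf_mk] at hk
  obtain ⟨a, ha, ho⟩ := exists_pow_order_four ⟨k, hk⟩ h4
  exact ⟨a, ha, zpowers_le.mpr hx ha, h.sq_eq (zpowers_le.mpr hx ha) ho⟩

omit [Finite G] in
/-- `z` is a power of every nonidentity element. -/
theorem OneInvol.mem_zpowers (h : OneInvol Q z) {x : G} (hx : x ∈ Q) (h1 : x ≠ 1) :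
    z ∈ zpowers x := by
  rcases h.order_cases hx with e | e | e
  · exact absurd e h1
  · rw [e]; exact Subgroup.mem_zpowers z
  · obtain ⟨a, ha, -, e'⟩ := h.exists_four hx e
    exact e' ▸ mul_mem ha ha

omit [Finite G] in
/-- Commuting elements of order four differ by `±`. -/
theorem OneInvol.eq_of_commute (h : OneInvol Q z) {a b : G} (ha : a ∈ Q) (hb : b ∈ Q)
    (ea : a * a = z) (eb : b * b = z) (hc : a * b = b * a) : b = a ∨ b = a⁻¹ := by
  have hm : (a * b) * (a * b) = 1 := by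
    rw [show a * b * (a * b) = a * (b * a) * b by group, ← hc, show a * (a * b) * b = (a * a) * (b * b) by group,
      ea, eb, h.sq]
  rcases h.uniq _ (mul_mem ha hb) hm with e | e
  · exact Or.inr (eq_inv_of_mul_eq_one_right e)
  · exact Or.inl (mul_left_cancel (a := a) (e.trans ea.symm))

omit [Finite G] in
theorem OneInvol.inv_eq (h : OneInvol Q z) {a : G} (ea : a * a = z) : a⁻¹ = a * z := by
  refine inv_eq_of_mul_eq_one_right ?_
  rw [← mul_assoc, ea, h.sq]

omit [Finite G] in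
/-- The centralizer of an element of order four only has the powers of it in order four. -/
theorem OneInvol.four_mem_zpowers (h : OneInvol Q z) {a t : G} (ha : a ∈ Q) (ea : a * a = z)
    (ht : t ∈ Q) (hc : a * t = t * a) (h4 : 4 ≤ orderOf t) : a ∈ zpowers t := by
  obtain ⟨b, hbt, hb, eb⟩ := h.exists_four ht h4
  have hcb : a * b = b * a := by
    obtain ⟨i, rfl⟩ := Subgroup.mem_zpowers_iff.mp hbt
    exact ((show Commute a t from hc).zpow_right i).eq
  rcases h.eq_of_commute ha hb ea eb hcb with e | e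
  · exact e ▸ hbt
  · exact inv_inv a ▸ e ▸ inv_mem hbt

/-- No element of order four is central. -/
theorem OneInvol.exists_not_commute (h : OneInvol Q z) {a : G} (ha : a ∈ Q) (ea : a * a = z) :
    ∃ x ∈ Q, x * a ≠ a * x := by
  by_contra hc
  push Not at hc
  haveI : Fact (Nat.Prime 2) := ⟨Nat.prime_two⟩
  obtain ⟨⟨x, hx⟩, hmax⟩ := Finite.exists_max fun q : Q => orderOf (q : G)
  refine h.notCyclic ?_
  have hXQ : zpowers x ≤ Q := zpowers_le.mpr hx
  rcases hXQ.eq_or_lt with e | hlt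
  · rw [← e]; infer_instance
  exfalso
  have hx4 : 4 ≤ orderOf x := (h.order_four ea).ge.trans (hmax ⟨a, ha⟩)
  -- every element of order four is a power of `x`
  have hfour : ∀ b ∈ Q, b * b = z → b ∈ zpowers x := by
    intro b hb eb
    have haX := h.four_mem_zpowers ha ea hx (hc x hx).symm hx4
    rcases h.eq_of_commute ha hb ea eb (hc b hb).symm with e | e
    · exact e ▸ haX
    · exact e ▸ inv_mem haX
  obtain ⟨y₀, hy₀, hy₀X⟩ := SetLike.exists_of_lt (Cfsg.Lib.Fusion.lt_inf_normalizer h.isTwo hlt)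
  obtain ⟨hy₀Q, hy₀N⟩ := mem_inf.mp hy₀
  have hex : ∃ m : ℕ, y₀ ^ 2 ^ m ∈ zpowers x := by
    obtain ⟨m, hm⟩ := h.isTwo ⟨y₀, hy₀Q⟩
    exact ⟨m, by rw [show y₀ ^ 2 ^ m = 1 from congrArg Subtype.val hm]; exact one_mem _⟩
  classical
  obtain ⟨l, hl⟩ : ∃ l, Nat.find hex = l + 1 := ⟨Nat.find hex - 1, by
    have : Nat.find hex ≠ 0 := fun e => hy₀X (by simpa [e] using Nat.find_spec hex)
    omega⟩
  set y := y₀ ^ 2 ^ l with hy
  have hyX : y ∉ zpowers x := Nat.find_min hex (by omega)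
  have hy2 : y * y ∈ zpowers x := by
    have := Nat.find_spec hex
    rwa [hl, pow_succ, pow_mul, pow_two, ← hy] at this
  have hyQ : y ∈ Q := pow_mem hy₀Q _
  have hyN : y ∈ normalizer (zpowers x : Set G) := pow_mem hy₀N _
  -- the commutator of `y` and `x`
  set c := y * x * y⁻¹ * x⁻¹ with hcdef
  have hcX : c ∈ zpowers x :=
    mul_mem ((mem_normalizer_iff.mp hyN x).mp (Subgroup.mem_zpowers x)) (inv_mem (Subgroup.mem_zpowers x))
  have hXcomm : ∀ u ∈ zpowers x, ∀ v ∈ zpowers x, u * v = v * u := by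
    rintro _ ⟨i, rfl⟩ _ ⟨j, rfl⟩
    exact (Commute.zpow_zpow (Commute.refl x) i j).eq
  have hinv : y * c * y⁻¹ = c⁻¹ := by
    refine eq_inv_of_mul_eq_one_left ?_
    have e1 : (y * c * y⁻¹) * c = (y * y) * x * (y * y)⁻¹ * x⁻¹ := by rw [hcdef]; group
    rw [e1, hXcomm _ hy2 _ (Subgroup.mem_zpowers x)]; group
  have hc2 : c * c = 1 := by
    rcases h.order_cases (hXQ hcX) with e | e | e
    · rw [e, one_mul]
    · rw [e, h.sq]
    · exfalso
      obtain ⟨b, hbc, hb, eb⟩ := h.exists_four (hXQ hcX) e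
      have hyb : y * b * y⁻¹ = b⁻¹ := by
        obtain ⟨i, rfl⟩ := Subgroup.mem_zpowers_iff.mp hbc
        rw [← conj_zpow, hinv, inv_zpow]
      have hba : b = a ∨ b = a⁻¹ := h.eq_of_commute ha hb ea eb (hc b hb).symm
      have hyb' : y * b * y⁻¹ = b := by
        rcases hba with e' | e'
        · rw [e', hc y hyQ, mul_inv_cancel_right]
        · rw [e', ((show Commute y a from hc y hyQ).inv_right).eq, mul_inv_cancel_right]
      rw [hyb'] at hyb
      exact h.ne (eb ▸ (eq_inv_iff_mul_eq_one.mp hyb))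
  obtain ⟨i, hi⟩ := Subgroup.mem_zpowers_iff.mp hy2
  rcases Int.even_or_odd' i with ⟨j, rfl | rfl⟩
  · -- an element of order at most four outside
    set w := x ^ (-j) * y with hw
    have hwQ : w ∈ Q := mul_mem (zpow_mem hx _) hyQ
    have e0 : y * x = c * x * y := by rw [hcdef]; group
    have hwX : w ∉ zpowers x := fun hm => hyX (by
      have := mul_mem (zpow_mem (Subgroup.mem_zpowers x) j) hm
      rwa [hw, zpow_neg, mul_inv_cancel_left] at this)
    have hcc : Commute c x := hXcomm c hcX x (Subgroup.mem_zpowers x)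
    have e2 : y * x ^ (-j) * y⁻¹ = c ^ (-j) * x ^ (-j) := by
      rw [← conj_zpow, show y * x * y⁻¹ = c * x by rw [hcdef]; group, hcc.mul_zpow]
    have e3 : w * w = c ^ (-j) := by
      rw [hw, show x ^ (-j) * y * (x ^ (-j) * y) = x ^ (-j) * (y * x ^ (-j) * y⁻¹) * (y * y) by group,
        e2, ← hi, ← mul_assoc, ((hcc.zpow_zpow (-j) (-j)).symm).eq]
      simp only [mul_assoc, ← zpow_add]
      rw [show -j + -j + 2 * j = 0 by ring, zpow_zero, mul_one]
    have hw4 : w * w * (w * w) = 1 := by rw [e3, ← zpow_add, ← two_mul, zpow_mul, zpow_two, hc2, one_zpow]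
    rcases h.uniq _ (mul_mem hwQ hwQ) hw4 with e | e
    · rcases h.uniq w hwQ e with e' | e'
      · exact hwX (e' ▸ one_mem _)
      · exact hwX (e' ▸ h.mem_zpowers hx (fun e1 => by rw [e1, orderOf_one] at hx4; omega))
    · exact hwX (hfour w hwQ e)
  · -- `x` is a power of `y`, against maximality
    have hxy : x ∈ zpowers y := by
      have h1 : x ^ (2 * j + 1) ∈ zpowers y := hi ▸ mul_mem (Subgroup.mem_zpowers y) (Subgroup.mem_zpowers y)
      obtain ⟨k, hk⟩ := IsPGroup.iff_orderOf.mp h.isTwo ⟨x, hx⟩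
      rw [Subgroup.orderOf_mk] at hk
      have hcop : (2 * j + 1).natAbs.Coprime (orderOf x) := by
        rw [hk]
        exact Nat.Coprime.pow_right _ (Nat.coprime_two_right.mpr (Int.natAbs_odd.mpr ⟨j, rfl⟩))
      refine (zpowers_le.mpr h1) ?_
      exact mem_zpowers_zpow_iff.mpr hcop
    have hle : zpowers x ≤ zpowers y := zpowers_le.mpr hxy
    have heq : zpowers x = zpowers y := eq_of_le_of_card_ge hle (by
      rw [Nat.card_zpowers, Nat.card_zpowers]; exact hmax ⟨y, hyQ⟩)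
    exact hyX (heq ▸ Subgroup.mem_zpowers y)

omit [Finite G] in
/-- An element of `Q` centralizing an element of order four and everything is a power of `z`. -/
theorem OneInvol.central_cases [Finite G] (h : OneInvol Q z) {x : G} (hx : x ∈ Q)
    (hc : ∀ q ∈ Q, q * x = x * q) : x = 1 ∨ x = z := by
  rcases h.order_cases hx with e | e | e
  · exact Or.inl e
  · exact Or.inr e
  · exfalso
    obtain ⟨a, hax, ha, ea⟩ := h.exists_four hx e
    obtain ⟨q, hq, hne⟩ := h.exists_not_commute ha ea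
    obtain ⟨i, rfl⟩ := Subgroup.mem_zpowers_iff.mp hax
    exact hne ((show Commute q x from hc q hq).zpow_right i).eq

omit [Finite G] in
/-- There is an element of order four. -/
theorem OneInvol.exists_sq (h : OneInvol Q z) : ∃ a ∈ Q, a * a = z := by
  by_contra hc
  refine h.notCyclic ((isCyclic_iff_exists_zpowers_eq_top).mpr ⟨⟨z, h.mem⟩, ?_⟩)
  refine (eq_top_iff' _).mpr fun q => ?_
  rcases h.order_cases q.2 with e | e | e
  · rw [show q = 1 from Subtype.ext e]; exact one_mem _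
  · rw [show q = ⟨z, h.mem⟩ from Subtype.ext e]; exact Subgroup.mem_zpowers _
  · obtain ⟨a, -, ha, ea⟩ := h.exists_four q.2 e
    exact absurd ⟨a, ha, ea⟩ hc

omit [Finite G] in
theorem OneInvol.conj_twice (h : OneInvol Q z) {a x : G} (hx : x ∈ Q) (e : x * a * x⁻¹ = a * z) :
    (x * x) * a = a * (x * x) := by
  have e1 : (x * x) * a * (x * x)⁻¹ = a := by
    rw [show x * x * a * (x * x)⁻¹ = x * (x * a * x⁻¹) * x⁻¹ by group, e,
      show x * (a * z) * x⁻¹ = (x * a * x⁻¹) * (x * z * x⁻¹) by group, e, ← h.comm hx,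
      mul_inv_cancel_right, mul_assoc, h.sq, mul_one]
  exact mul_inv_eq_iff_eq_mul.mp e1

omit [Finite G] in
/-- An inverter of an element of order four squares to `z`. -/
theorem OneInvol.inverter_sq (h : OneInvol Q z) {a x : G} (ha : a ∈ Q) (ea : a * a = z) (hx : x ∈ Q)
    (e : x * a * x⁻¹ = a * z) : x * x = z := by
  rcases h.order_cases hx with e1 | e1 | e1
  · rw [e1, one_mul, inv_one, mul_one] at e
    exact absurd (mul_left_cancel (a := a) ((mul_one a).trans e)).symm h.ne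
  · rw [e1, h.comm ha, mul_inv_cancel_right] at e
    exact absurd (mul_left_cancel (a := a) ((mul_one a).trans e)).symm h.ne
  · have hm := mul_mem hx hx
    rcases h.order_cases hm with e2 | e2 | e2
    · exfalso
      have : orderOf x ∣ 2 := orderOf_dvd_of_pow_eq_one (by rw [pow_two]; exact e2)
      have := Nat.le_of_dvd two_pos this
      omega
    · exact e2
    · exfalso
      have hz' : a ∈ zpowers (x * x) := h.four_mem_zpowers ha ea hm (h.conj_twice hx e).symm e2
      obtain ⟨i, hi⟩ := Subgroup.mem_zpowers_iff.mp hz'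
      have hxa : x * a * x⁻¹ = a := by
        rw [← hi, (((Commute.refl x).mul_right (Commute.refl x)).zpow_right i).eq, mul_inv_cancel_right]
      rw [hxa] at e
      exact h.ne (mul_left_cancel (a := a) ((mul_one a).trans e)).symm

/-- An element of order four is inverted by some element, which has order four. -/
theorem OneInvol.exists_inverter (h : OneInvol Q z) {a : G} (ha : a ∈ Q) (ea : a * a = z) :
    ∃ x ∈ Q, x * a * x⁻¹ = a * z ∧ x * x = z := by
  haveI : Fact (Nat.Prime 2) := ⟨Nat.prime_two⟩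
  set P := Q ⊓ centralizer ({a} : Set G) with hP
  have hlt : P < Q := lt_of_le_of_ne inf_le_left fun e => by
    obtain ⟨x, hx, hne⟩ := h.exists_not_commute ha ea
    exact hne (mem_centralizer_singleton_iff.mp (mem_inf.mp (e ▸ hx : x ∈ P)).2)
  obtain ⟨x, hx, hxP⟩ := SetLike.exists_of_lt (Cfsg.Lib.Fusion.lt_inf_normalizer h.isTwo hlt)
  obtain ⟨hxQ, hxN⟩ := mem_inf.mp hx
  have haP : a ∈ P := mem_inf.mpr ⟨ha, mem_centralizer_singleton_iff.mpr rfl⟩
  obtain ⟨hm, hmc⟩ := mem_inf.mp ((mem_normalizer_iff.mp hxN a).mp haP)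
  have e2 : (x * a * x⁻¹) * (x * a * x⁻¹) = z := by
    rw [show x * a * x⁻¹ * (x * a * x⁻¹) = x * (a * a) * x⁻¹ by group, ea, ← h.comm hxQ, mul_inv_cancel_right]
  have hneg : x * a * x⁻¹ = a * z := by
    rcases h.eq_of_commute ha hm ea e2 (mem_centralizer_singleton_iff.mp hmc).symm with e | e
    · exfalso
      exact hxP (mem_inf.mpr ⟨hxQ, mem_centralizer_singleton_iff.mpr (mul_inv_eq_iff_eq_mul.mp e)⟩)
    · rw [e, h.inv_eq ea]
  exact ⟨x, hxQ, hneg, h.inverter_sq ha ea hxQ hneg⟩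

/-- For a two-element normalizing `Q`, some element of order four is fixed or multiplied by `z`. -/
theorem OneInvol.dichotomy (h : OneInvol Q z) {g : G} (hg : ∃ k : ℕ, orderOf g = 2 ^ k)
    (hn : g ∈ normalizer (Q : Set G)) :
    ∃ a ∈ Q, a * a = z ∧ (g * a * g⁻¹ = a ∨ g * a * g⁻¹ = a * z) := by
  haveI : Fact (Nat.Prime 2) := ⟨Nat.prime_two⟩
  have hg2 : IsPGroup 2 ↥(zpowers g) := by
    obtain ⟨k, hk⟩ := hg
    exact IsPGroup.of_card (n := k) (by rw [Nat.card_zpowers, hk])
  set R := zpowers g ⊔ Q with hR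
  have hgN : zpowers g ≤ normalizer (Q : Set G) := zpowers_le.mpr hn
  have hRp : IsPGroup 2 ↥R := hg2.to_sup_of_normal_right' h.isTwo hgN
  haveI : Group.IsNilpotent ↥R := hRp.isNilpotent
  classical
  obtain ⟨N, hN⟩ := Group.IsNilpotent.nilpotent (G := ↥R)
  have hex : ∃ k, ∃ q : ↥R, q ∈ Subgroup.upperCentralSeries ↥R k ∧ (q : G) ∈ Q ∧ (q : G) ≠ 1 ∧ (q : G) ≠ z := by
    obtain ⟨a, ha, ea⟩ := h.exists_sq
    refine ⟨N, ⟨a, mem_sup_right ha⟩, hN ▸ mem_top _, ha, ?_, ?_⟩
    · rintro rfl; exact h.ne (by rw [← ea, one_mul])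
    · rintro rfl; exact h.ne (by rw [← ea, h.sq])
  obtain ⟨q, hq, hqQ, hq1, hqz⟩ := Nat.find_spec hex
  obtain ⟨l, hl⟩ : ∃ l, Nat.find hex = l + 1 := ⟨Nat.find hex - 1, by
    have : Nat.find hex ≠ 0 := fun e => by
      rw [e, Subgroup.upperCentralSeries_zero, mem_bot] at hq
      exact hq1 (congrArg Subtype.val hq)
    omega⟩
  rw [hl, Subgroup.mem_upperCentralSeries_succ_iff] at hq
  have hgR : g ∈ R := mem_sup_left (Subgroup.mem_zpowers g)
  have hd : (q : G) * g * (q : G)⁻¹ * g⁻¹ ∈ Q := by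
    rw [mul_assoc _ (q : G)⁻¹, mul_assoc (q : G)]
    refine mul_mem hqQ ?_
    rw [← mul_assoc]
    exact (mem_normalizer_iff.mp hn _).mp (inv_mem hqQ)
  have hd' : (q : G) * g * (q : G)⁻¹ * g⁻¹ = 1 ∨ (q : G) * g * (q : G)⁻¹ * g⁻¹ = z := by
    by_contra hne
    push Not at hne
    exact Nat.find_min hex (show l < Nat.find hex by omega)
      ⟨_, hq ⟨g, hgR⟩, hd, hne.1, hne.2⟩
  have hz_g : g * z * g⁻¹ = z := by
    rcases h.uniq _ ((mem_normalizer_iff.mp hn z).mp h.mem) (by
      rw [show g * z * g⁻¹ * (g * z * g⁻¹) = g * (z * z) * g⁻¹ by group, h.sq, mul_one, mul_inv_cancel]) with e | e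
    · exact absurd (conj_eq_one_iff.mp e) h.ne
    · exact e
  have hgq : g * (q : G) * g⁻¹ = q ∨ g * (q : G) * g⁻¹ = (q : G) * z := by
    have e0 : g * (q : G) * g⁻¹ = ((q : G) * g * (q : G)⁻¹ * g⁻¹)⁻¹ * q := by group
    rw [e0]
    rcases hd' with e | e <;> rw [e]
    · left; rw [inv_one, one_mul]
    · right; rw [h.inv_z, h.comm hqQ]
  obtain ⟨a, haq, ha, ea⟩ := h.exists_four hqQ (by
    rcases h.order_cases hqQ with e | e | e
    exacts [absurd e hq1, absurd e hqz, e])
  refine ⟨a, ha, ea, ?_⟩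
  obtain ⟨i, rfl⟩ := Subgroup.mem_zpowers_iff.mp haq
  rcases hgq with e | e
  · left; rw [← conj_zpow, e]
  · have e' : g * (q : G) ^ i * g⁻¹ = (q : G) ^ i * z ^ i := by
      rw [← conj_zpow, e, (show Commute (q : G) z from (h.comm hqQ).symm).mul_zpow]
    rcases Int.even_or_odd' i with ⟨j, rfl | rfl⟩
    · left
      rw [e', zpow_mul z, zpow_two, h.sq, one_zpow, mul_one]
    · right
      rw [e', zpow_add z, zpow_mul z, zpow_two, h.sq, one_zpow, one_mul, zpow_one]

end Cfsg.Lib.Sig.Intr
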